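import Cfsg.Agent.OddHalf.D6.QThree.L43AutD
import Cfsg.Agent.OddHalf.D6.QThree.Facts

/-!
# ODD half, D6, `K = L₄(3)`: the facts on `Aut(K)` for the front end (helper76, bb #17200 (F))

`FK z R`: `Out(K)` is elementary abelian, the graph sign, `z` is a double commutator in a 2-subgroup of `C_K(z)`.
`exists_FK`.
-/

set_option autoImplicit false

namespace Cfsg.Agent.OddHalf.D6.QThree.L43.KFront

open Subgroup
open Cfsg.Agent.OddHalf.D6.QThree

universe u v

/-- `α ∈ Inn(K)` -/
def Inn {K : Type*} [Group K] (α : MulAut K) : Prop := α ∈ (MulAut.conj : K →* MulAut K).range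

/-- the facts on `K`, `Aut(K)` -/
structure FK {K : Type*} [Group K] (z : K) (R : Subgroup K) : Prop extends Facts.Base z R where
  /-- `z = [[a, b], [c, d]]` in a 2-subgroup of `C(z)` -/
  dc : ∃ P : Subgroup K, IsPGroup 2 P ∧ (∀ x ∈ P, x * z = z * x) ∧ ∃ a ∈ P, ∃ b ∈ P, ∃ c ∈ P, ∃ d ∈ P,
    (a * b * a⁻¹ * b⁻¹) * (c * d * c⁻¹ * d⁻¹) * (a * b * a⁻¹ * b⁻¹)⁻¹ * (c * d * c⁻¹ * d⁻¹)⁻¹ = z
  /-- `Out(K)` is abelian -/
  inn : ∀ α β : MulAut K, Inn (α * β * α⁻¹ * β⁻¹)
  /-- `Out(K)` has exponent two -/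
  sqi : ∀ α : MulAut K, Inn (α * α)
  /-- the graph sign -/
  sg : ∃ γ : MulAut K →* ℤˣ, (∀ x, γ (MulAut.conj x) = 1) ∧
    ∀ α, (∀ r ∈ R, α r = r) → γ α = 1 → α = 1 ∨ α = MulAut.conj z
  /-- the automorphisms trivial on `R` have square one -/
  inv : ∀ α : MulAut K, (∀ r ∈ R, α r = r) → α * α = 1

section transport

variable {K : Type u} [Group K] {K' : Type v} [Group K']

theorem inn_iff (e : K ≃* K') (α : MulAut K') : Inn α ↔ Inn (MulAut.congr e.symm α) := by
  constructor
  · rintro ⟨x, rfl⟩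
    refine ⟨e.symm x, ?_⟩
    ext y
    show e.symm x * y * (e.symm x)⁻¹ = e.symm (x * e y * x⁻¹)
    rw [map_mul, map_mul, map_inv, e.symm_apply_apply]
  · rintro ⟨x, hx⟩
    refine ⟨e x, ?_⟩
    ext y
    have h1 := congrArg (fun f : MulAut K => f (e.symm y)) hx
    have h2 : x * e.symm y * x⁻¹ = e.symm (α (e (e.symm y))) := h1
    rw [e.apply_symm_apply] at h2
    show e x * y * (e x)⁻¹ = α y
    have h3 := congrArg e h2
    rw [map_mul, map_mul, map_inv, e.apply_symm_apply, e.apply_symm_apply] at h3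
    exact h3

theorem FK.map {z : K} {R : Subgroup K} (h : FK z R) (e : K ≃* K') : FK (e z) (R.map e.toMonoidHom) where
  toBase := h.toBase.map e
  dc := by
    obtain ⟨P, hP, hc, a, ha, b, hb, c, hc', d, hd, hz⟩ := h.dc
    refine ⟨P.map e.toMonoidHom, hP.map _, ?_, e a, ⟨a, ha, rfl⟩, e b, ⟨b, hb, rfl⟩, e c, ⟨c, hc', rfl⟩,
      e d, ⟨d, hd, rfl⟩, ?_⟩
    · rintro _ ⟨x, hx, rfl⟩
      show e x * e z = e z * e x
      rw [← map_mul, hc x hx, map_mul]
    · rw [← hz]
      simp only [map_mul, map_inv]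
  inn := by
    intro α β
    rw [inn_iff e, map_mul, map_mul, map_mul, map_inv, map_inv]
    exact h.inn _ _
  sqi := by
    intro α
    rw [inn_iff e, map_mul]
    exact h.sqi _
  sg := by
    obtain ⟨γ, h1, h2⟩ := h.sg
    refine ⟨γ.comp (MulAut.congr e.symm).toMonoidHom, ?_, ?_⟩
    · intro x
      have h3 : MulAut.congr e.symm (MulAut.conj x) = MulAut.conj (e.symm x) := by
        ext y
        show e.symm (x * e y * x⁻¹) = e.symm x * y * (e.symm x)⁻¹
        rw [map_mul, map_mul, map_inv, e.symm_apply_apply]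
      show γ (MulAut.congr e.symm (MulAut.conj x)) = 1
      rw [h3]; exact h1 _
    · intro α hα hγ
      have h3 : γ (MulAut.congr e.symm α) = 1 := hγ
      have h4 := h2 (MulAut.congr e.symm α) (by
        intro r hr
        show e.symm (α (e r)) = r
        rw [hα (e r) ⟨r, hr, rfl⟩, e.symm_apply_apply]) h3
      rcases h4 with h4 | h4
      · left
        ext y
        have h5 := congrArg (fun f : MulAut K => e (f (e.symm y))) h4
        have h6 : e (e.symm (α (e (e.symm y)))) = e (e.symm y) := h5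
        rw [e.apply_symm_apply, e.apply_symm_apply] at h6
        exact h6
      · right
        ext y
        have h5 := congrArg (fun f : MulAut K => e (f (e.symm y))) h4
        have h6 : e (e.symm (α (e (e.symm y)))) = e (z * e.symm y * z⁻¹) := h5
        rw [e.apply_symm_apply, map_mul, map_mul, map_inv, e.apply_symm_apply] at h6
        exact h6
  inv := by
    intro α hα
    have h3 := h.inv (MulAut.congr e.symm α) (by
        intro r hr
        show e.symm (α (e r)) = r
        rw [hα (e r) ⟨r, hr, rfl⟩, e.symm_apply_apply])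
    rw [← map_mul] at h3
    have h4 := congrArg (MulAut.congr e) h3
    rw [map_one] at h4
    rw [← h4]
    ext y
    show (α * α) y = e (e.symm ((α * α) (e (e.symm y))))
    rw [e.apply_symm_apply, e.apply_symm_apply]

end transport

open Cfsg.Agent.KFacts.LFourThree Cfsg.Agent.KFacts.LFourThree.Facts
open Cfsg.Agent.OddHalf.D6.QThree.L43Aut
open Cfsg.Agent.ClassicalGeometry.AutPSL.Auto

/-- the automorphisms induced by `PGL₄(3)` -/
noncomputable def PG : Subgroup (MulAut L) := (lift.comp cj).range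

theorem conj_mem_PG (x : L) : (MulAut.conj x : MulAut L) ∈ PG := by
  obtain ⟨A, rfl⟩ := pr_surj x
  refine ⟨Matrix.SpecialLinearGroup.toGL A, ?_⟩
  show lift (cj (Matrix.SpecialLinearGroup.toGL A)) = _
  rw [cj_toGL, lift_conj]

theorem dl_mem_PG : dl ∈ PG := ⟨gD, rfl⟩

theorem r_not_mem_PG : r ∉ PG := by
  rintro ⟨A, hA⟩
  have hA' : lift (cj A) = r := hA
  rcases fix_inner (A := A) (by rw [hA']; exact ri) (by rw [hA']; exact rj) (by rw [hA']; exact rk)
    (by rw [hA']; exact rl) with h | h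
  · exact r_ne (hA'.symm.trans h)
  · exact r_ne_z (hA'.symm.trans h)

theorem PG_index : PG.index = 2 := by
  rw [Subgroup.index_eq_two_iff]
  refine ⟨r, fun b => ?_⟩
  obtain ⟨x, h | h | h | h⟩ := four_forms b
  · right
    have hb : b ∈ PG := by rw [h]; exact conj_mem_PG x
    refine ⟨hb, fun h1 => r_not_mem_PG ?_⟩
    have := PG.mul_mem (PG.inv_mem hb) h1
    rwa [inv_mul_cancel_left] at this
  · right
    have hb : b ∈ PG := by rw [h]; exact PG.mul_mem (conj_mem_PG x) dl_mem_PG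
    refine ⟨hb, fun h1 => r_not_mem_PG ?_⟩
    have := PG.mul_mem (PG.inv_mem hb) h1
    rwa [inv_mul_cancel_left] at this
  · left
    have hb : b * r ∈ PG := by rw [h, mul_assoc, rr, mul_one]; exact conj_mem_PG x
    refine ⟨hb, fun h1 => r_not_mem_PG ?_⟩
    have := PG.mul_mem (PG.inv_mem h1) hb
    rwa [inv_mul_cancel_left] at this
  · left
    have hb : b * r ∈ PG := by rw [h, mul_assoc, rr, mul_one]; exact PG.mul_mem (conj_mem_PG x) dl_mem_PG
    refine ⟨hb, fun h1 => r_not_mem_PG ?_⟩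
    have := PG.mul_mem (PG.inv_mem h1) hb
    rwa [inv_mul_cancel_left] at this

open Classical in
/-- the graph sign -/
noncomputable def gs : MulAut L →* ℤˣ where
  toFun α := if α ∈ PG then 1 else -1
  map_one' := if_pos PG.one_mem
  map_mul' α β := by
    have h := Subgroup.mul_mem_iff_of_index_two PG_index (a := α) (b := β)
    by_cases h1 : α ∈ PG <;> by_cases h2 : β ∈ PG <;> simp [h, h1, h2]

theorem gs_eq_one {α : MulAut L} : gs α = 1 ↔ α ∈ PG := by
  classical
  show (if α ∈ PG then (1 : ℤˣ) else -1) = 1 ↔ _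
  split_ifs with h
  · simp [h]
  · simp only [h, iff_false]
    decide

theorem gs_fix {α : MulAut L} (hα : ∀ x ∈ Q, α x = x) (h : gs α = 1) : α = 1 ∨ α = MulAut.conj z := by
  obtain ⟨A, hA⟩ := gs_eq_one.1 h
  have hA' : lift (cj A) = α := hA
  rw [← hA'] at hα ⊢
  exact fix_inner (hα _ (gen_mem (by simp))) (hα _ (gen_mem (by simp))) (hα _ (gen_mem (by simp)))
    (hα _ (gen_mem (by simp)))

theorem normal_conj : ((MulAut.conj : L →* MulAut L).range).Normal := by
  refine ⟨?_⟩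
  rintro _ ⟨x, rfl⟩ α
  refine ⟨α x, ?_⟩
  ext y
  show α x * y * (α x)⁻¹ = α (x * α⁻¹ y * x⁻¹)
  rw [map_mul, map_mul, map_inv, MulAut.apply_inv_self]

theorem abs_comm {X : Type*} [Group X] {D R a b : X} (hdr : D * R = R * D)
    (ha : a = 1 ∨ a = D ∨ a = R ∨ a = D * R) (hb : b = 1 ∨ b = D ∨ b = R ∨ b = D * R) : a * b = b * a := by
  have cdr : Commute D R := hdr
  have key : ∀ x, (x = 1 ∨ x = D ∨ x = R ∨ x = D * R) → Commute x D ∧ Commute x R := by
    rintro x (rfl | rfl | rfl | rfl)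
    · exact ⟨Commute.one_left _, Commute.one_left _⟩
    · exact ⟨Commute.refl _, cdr⟩
    · exact ⟨cdr.symm, Commute.refl _⟩
    · exact ⟨(Commute.refl _).mul_left cdr.symm, cdr.mul_left (Commute.refl _)⟩
  obtain ⟨h1, h2⟩ := key a ha
  show Commute a b
  rcases hb with rfl | rfl | rfl | rfl
  · exact Commute.one_right _
  · exact h1
  · exact h2
  · exact h1.mul_right h2

theorem abs_sq {X : Type*} [Group X] {D R a : X} (hd : D * D = 1) (hr : R * R = 1) (hdr : D * R = R * D)
    (ha : a = 1 ∨ a = D ∨ a = R ∨ a = D * R) : a * a = 1 := by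
  rcases ha with rfl | rfl | rfl | rfl
  · rw [one_mul]
  · exact hd
  · exact hr
  · calc D * R * (D * R) = D * (R * D) * R := by group
      _ = D * (D * R) * R := by rw [hdr]
      _ = (D * D) * (R * R) := by group
      _ = 1 := by rw [hd, hr, one_mul]

/-- the classes of `Out(L)` -/
theorem forms_mod {X : Type*} [Group X] (π : MulAut L →* X) (hc : ∀ x : L, π (MulAut.conj x) = 1) (α : MulAut L) :
    π α = 1 ∨ π α = π dl ∨ π α = π r ∨ π α = π dl * π r := by
  obtain ⟨x, h | h | h | h⟩ := four_forms α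
  · exact Or.inl (by rw [h, hc])
  · exact Or.inr (Or.inl (by rw [h, map_mul, hc, one_mul]))
  · exact Or.inr (Or.inr (Or.inl (by rw [h, map_mul, hc, one_mul])))
  · exact Or.inr (Or.inr (Or.inr (by rw [h, map_mul, map_mul, hc, one_mul])))

theorem out_facts : (∀ α β : MulAut L, Inn (α * β * α⁻¹ * β⁻¹)) ∧ ∀ α : MulAut L, Inn (α * α) := by
  have hN := normal_conj
  have hc : ∀ x : L, QuotientGroup.mk' (MulAut.conj : L →* MulAut L).range (MulAut.conj x) = 1 := fun x => by
    rw [QuotientGroup.mk'_apply, QuotientGroup.eq_one_iff]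
    exact ⟨x, rfl⟩
  have hin : ∀ α : MulAut L, QuotientGroup.mk' (MulAut.conj : L →* MulAut L).range α = 1 → Inn α := fun α h => by
    rw [QuotientGroup.mk'_apply, QuotientGroup.eq_one_iff] at h
    exact h
  generalize QuotientGroup.mk' (MulAut.conj : L →* MulAut L).range = π at hc hin
  have hd : π dl * π dl = 1 := by rw [← map_mul, dl_sq, map_one]
  have hr : π r * π r = 1 := by rw [← map_mul, rr, map_one]
  have hdr : π dl * π r = π r * π dl := by
    rw [← map_mul, dl_r, map_mul, map_mul, hc, one_mul]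
  constructor
  · intro α β
    apply hin
    rw [map_mul, map_mul, map_mul, map_inv, map_inv, abs_comm hdr (forms_mod π hc α) (forms_mod π hc β)]
    group
  · intro α
    apply hin
    rw [map_mul]
    exact abs_sq hd hr hdr (forms_mod π hc α)

/-! ### `z` as a double commutator -/

/-- lift of `i y i⁻¹ y⁻¹` -/
def zcP : SL4 := ⟨!![1, 2, 0, 0; 2, 2, 0, 0; 0, 0, 1, 0; 0, 0, 0, 1], by decide +kernel⟩
/-- lift of `i s i⁻¹ s⁻¹` -/
def zcQ : SL4 := ⟨!![0, 1, 0, 0; 2, 0, 0, 0; 0, 0, 0, 2; 0, 0, 1, 0], by decide +kernel⟩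

theorem zcc : (i * y * i⁻¹ * y⁻¹) * (i * s * i⁻¹ * s⁻¹) * (i * y * i⁻¹ * y⁻¹)⁻¹ * (i * s * i⁻¹ * s⁻¹)⁻¹ = z := by
  have hi : i⁻¹ = i * z := by
    refine inv_eq_of_mul_eq_one_right ?_
    rw [← mul_assoc, ii, zz]
  have hy : y⁻¹ = y := by
    refine inv_eq_of_mul_eq_one_right ?_
    rw [y, ← map_mul, pr_eq_one_iff]
    exact Or.inl (by decide +kernel)
  have hs : s⁻¹ = s := by
    refine inv_eq_of_mul_eq_one_right ?_
    rw [s, ← map_mul, pr_eq_one_iff]
    exact Or.inl (by decide +kernel)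
  have hP : i * y * i⁻¹ * y⁻¹ = pr zcP := by
    rw [hi, hy]
    simp only [i, y, z, ← map_mul]
    exact pm (by decide +kernel)
  have hQ : i * s * i⁻¹ * s⁻¹ = pr zcQ := by
    rw [hi, hs]
    simp only [i, s, z, ← map_mul]
    exact pm (by decide +kernel)
  have key : pr zcP * pr zcQ = z * (pr zcQ * pr zcP) := by
    simp only [z, ← map_mul]
    exact pm (by decide +kernel)
  rw [hP, hQ, key]
  group

theorem nor_of_comm {g : L} (hg : g * z = z * g) : g ∈ normalizer (Q : Set L) := by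
  have hb := one_L.toBase
  have hgi : g⁻¹ * z = z * g⁻¹ := (Commute.inv_left (show Commute g z from hg)).eq
  rw [mem_normalizer_iff]
  intro x
  refine ⟨fun hx => hb.nR g hg x hx, fun hx => ?_⟩
  have h1 := hb.nR g⁻¹ hgi _ hx
  have e : g⁻¹ * (g * x * g⁻¹) * g⁻¹⁻¹ = x := by group
  rwa [e] at h1

theorem pgroup_zp {X : Type*} [Group X] {g : X} (h : g * g = 1) : IsPGroup 2 (zpowers g) := by
  rintro ⟨x, hx⟩
  obtain ⟨n, rfl⟩ := mem_zpowers_iff.1 hx
  refine ⟨1, Subtype.ext ?_⟩
  show (g ^ n) ^ 2 ^ 1 = 1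
  rw [pow_one, pow_two, ← (Commute.refl g).mul_zpow, h, one_zpow]

/-- a 2-subgroup of `C(z)` containing `Q`, `y`, `s` -/
theorem exists_P : ∃ P : Subgroup L, IsPGroup 2 P ∧ (∀ x ∈ P, x * z = z * x) ∧ i ∈ P ∧ y ∈ P ∧ s ∈ P := by
  have hb := one_L.toBase
  have hyz : y * z = z * y := cz (by simp)
  have hsz : s * z = z * s := cz (by simp)
  have hyy : y * y = 1 := by
    rw [y, ← map_mul, pr_eq_one_iff]
    exact Or.inl (by decide +kernel)
  have hss : s * s = 1 := by
    rw [s, ← map_mul, pr_eq_one_iff]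
    exact Or.inl (by decide +kernel)
  have hsy : s * y = y * s := by
    simp only [y, s, ← map_mul]
    exact pm (by decide +kernel)
  have h1 : IsPGroup 2 ↥(zpowers y ⊔ Q : Subgroup L) :=
    (pgroup_zp hyy).to_sup_of_normal_right' hb.pR (by rw [zpowers_le]; exact nor_of_comm hyz)
  have hsn : zpowers s ≤ normalizer ((zpowers y ⊔ Q : Subgroup L) : Set L) := by
    rw [zpowers_le]
    have h2 : ∀ g : L, (∀ x ∈ (zpowers y ⊔ Q : Subgroup L), g * x * g⁻¹ ∈ (zpowers y ⊔ Q : Subgroup L)) →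
        (∀ x ∈ (zpowers y ⊔ Q : Subgroup L), g⁻¹ * x * g ∈ (zpowers y ⊔ Q : Subgroup L)) →
        g ∈ normalizer ((zpowers y ⊔ Q : Subgroup L) : Set L) := by
      intro g h3 h4
      rw [mem_normalizer_iff]
      intro x
      refine ⟨fun hx => h3 x hx, fun hx => ?_⟩
      have h5 := h4 _ hx
      have e : g⁻¹ * (g * x * g⁻¹) * g = x := by group
      rwa [e] at h5
    have h3 : ∀ x ∈ (zpowers y ⊔ Q : Subgroup L), s * x * s⁻¹ ∈ (zpowers y ⊔ Q : Subgroup L) := by
      intro x hx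
      have h4 : (zpowers y ⊔ Q : Subgroup L) ≤ (zpowers y ⊔ Q : Subgroup L).comap (MulAut.conj s).toMonoidHom := by
        rw [sup_le_iff, zpowers_le]
        refine ⟨?_, fun x hx => (le_sup_right : Q ≤ _) (hb.nR s hsz x hx)⟩
        show s * y * s⁻¹ ∈ (zpowers y ⊔ Q : Subgroup L)
        rw [hsy, mul_inv_cancel_right]
        exact (le_sup_left : zpowers y ≤ _) (mem_zpowers y)
      exact h4 hx
    have hsi : s⁻¹ = s := inv_eq_of_mul_eq_one_right hss
    refine h2 s h3 ?_
    intro x hx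
    have h4 := h3 x hx
    rwa [hsi] at h4 ⊢
  have h2 : IsPGroup 2 ↥(zpowers s ⊔ (zpowers y ⊔ Q) : Subgroup L) :=
    (pgroup_zp hss).to_sup_of_normal_right' h1 hsn
  refine ⟨_, h2, ?_, ?_, ?_, ?_⟩
  · have h3 : zpowers s ⊔ (zpowers y ⊔ Q) ≤ centralizer ({z} : Set L) := by
      rw [sup_le_iff, sup_le_iff, zpowers_le, zpowers_le]
      exact ⟨mem_centralizer_singleton_iff.2 hsz, mem_centralizer_singleton_iff.2 hyz,
        fun x hx => mem_centralizer_singleton_iff.2 (hb.RP x hx)⟩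
    exact fun x hx => mem_centralizer_singleton_iff.1 (h3 hx)
  · exact (le_sup_right : _ ≤ zpowers s ⊔ (zpowers y ⊔ Q)) ((le_sup_right : Q ≤ zpowers y ⊔ Q) (gen_mem (by simp)))
  · exact (le_sup_right : _ ≤ zpowers s ⊔ (zpowers y ⊔ Q)) ((le_sup_left : zpowers y ≤ zpowers y ⊔ Q) (mem_zpowers y))
  · exact (le_sup_left : zpowers s ≤ _) (mem_zpowers s)

/-- **`FK` for `L₄(3)`** -/
theorem fk_L : FK z Q where
  toBase := one_L.toBase
  dc := by
    obtain ⟨P, hP, hc, hi, hy, hs⟩ := exists_P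
    exact ⟨P, hP, hc, i, hi, y, hy, i, hi, s, hs, zcc⟩
  inn := out_facts.1
  sqi := out_facts.2
  sg := ⟨gs, fun x => gs_eq_one.2 (conj_mem_PG x), fun _ hα h => gs_fix hα h⟩
  inv := by
    intro α hα
    rcases cent_syl (S := Q) le_rfl hα with h | h | h | h
    · rw [h, one_mul]
    · rw [h, ← map_mul, one_L.zz, map_one]
    · rw [h, rr]
    · rw [h]
      calc MulAut.conj z * r * (MulAut.conj z * r) = MulAut.conj z * (r * MulAut.conj z) * r := by
            simp only [mul_assoc]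
        _ = (MulAut.conj z * MulAut.conj z) * (r * r) := by rw [r_comm_z]; simp only [mul_assoc]
        _ = 1 := by rw [rr, mul_one, ← map_mul, one_L.zz, map_one]

end Cfsg.Agent.OddHalf.D6.QThree.L43.KFront
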