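import Cfsg.Agent.OddHalf.D6.QThree.NIB.End
import Cfsg.Agent.OddHalf.D6.QThree.RefTri
import Cfsg.Agent.OddHalf.D6.QThree.RefData
import Cfsg.Agent.OddHalf.D6.QThree.NIB.DiagOf
import Cfsg.Agent.OddHalf.D6.QThree.NIB.SpOf
import Cfsg.Agent.OddHalf.D6.QThree.TS.Rad

-- merged: Cfsg.Agent.OddHalf.D6.QThree.L43.Beta
section

/-!
# ODD half, D6, `K = L₄(3)`, `T < S`, NI: a component of `C_G(z)` contains `Q₁` or `Q₂` (helper577; text: helper76
#17200 (beta), after helper801 #14694 (5), (6))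

`B = C_X(t) ∩ C(Q₁ Q₂)` is elementary abelian (`hel`), two reflections differ by an element of `⟨t, z⟩` (`hB2`).

* `nF_of_comp`: the field `nF` of `HypB`;
* `normal`: a component containing `Q₁` and `Q₂` is normal;
* `Sw`, `RefTri'`: the cases for a reflection; `two`: `Q₁ ≤ M₁ ≠ M₂ ≥ Q₂`;
* `false_of`: no component of `C_G(z)` contains `Q₁` or `Q₂`.
-/

set_option autoImplicit false

namespace Cfsg.Agent.OddHalf.D6.QThree.L43.Beta

open Subgroup Cfsg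
open Cfsg.Agent.Cit (cj mem_cj conj_mem_cj)
open Cfsg.Agent.OddHalf.D6.QThree.NISide
open Cfsg.Agent.OddHalf.D6.QThree.NIB
open Cfsg.Agent.OddHalf.D6.QThree.NIB.Two
open Cfsg.Agent.OddHalf.D6.QThree.NI.Hyp (CA comm_layer)

section X

variable {X : Type*} [Group X] {z t a₁ a₂ : X} {Q₁ Q₂ : Subgroup X}

/-- the field `nF`, when a component contains `Q₁` or `Q₂` -/
theorem nF_of_comp (s₁ : Side z t a₁ Q₁ Q₂) (s₂ : Side z t a₂ Q₂ Q₁) {M : Subgroup X} (hM : IsComponent M)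
    (hQ : Q₁ ≤ M ∨ Q₂ ≤ M) :
    (∀ M : Subgroup X, IsComponent M → (∀ x ∈ Q₁, ∀ m ∈ M, x * m = m * x) ∧ ∀ x ∈ Q₂, ∀ m ∈ M, x * m = m * x) →
      ∀ F : Subgroup X, F.Normal → IsPGroup 2 F → ¬ (Q₁ ≤ F ∧ Q₂ ≤ F) := by
  intro h
  exfalso
  obtain ⟨h1, h2⟩ := h M hM
  rcases hQ with hQ | hQ
  · exact s₁.not_comm fun x hx y hy => h1 x hx y (hQ hy)
  · exact s₂.not_comm fun x hx y hy => h2 x hx y (hQ hy)

/-! ### one component -/

/-- `M` is the only component -/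
theorem eq_of_comp [Finite X] (h : HypB z t a₁ a₂ Q₁ Q₂) (hel : ∀ b, Bt t Q₁ Q₂ b → b * b = 1) {M : Subgroup X}
    (hM : IsComponent M) (h1 : Q₁ ≤ M) (h2 : Q₂ ≤ M) {L : Subgroup X} (hL : IsComponent L) : L = M := by
  by_contra hne
  have hcomm : ∀ x ∈ L, ∀ y ∈ M, x * y = y * x := fun x hx y hy =>
    Cfsg.Agent.Cit.Comp.comm_of_ne hL hM hne hx hy
  refine h.not_central hL fun m hm hmt x hx => ?_
  have hB : Bt t Q₁ Q₂ m := ⟨hmt, fun q hq => hcomm m hm q (h1 hq), fun q hq => hcomm m hm q (h2 hq)⟩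
  have hmz : m = 1 ∨ m = z := by
    by_cases hT : T4 z t m
    · exact Dir.two_of_four h hM (fun x hx => hcomm m hm x hx) hT
    · exact absurd (fun y hy => hcomm m hm y hy) (h.refl m ⟨hB, hel m hB, hT⟩ M hM (Or.inl h1))
  rcases hmz with e | e
  · rw [e, one_mul, mul_one]
  · rw [e]; exact (h.zc x).symm

/-- `M` is normal -/
theorem normal [Finite X] (h : HypB z t a₁ a₂ Q₁ Q₂) (hel : ∀ b, Bt t Q₁ Q₂ b → b * b = 1) {M : Subgroup X}
    (hM : IsComponent M) (h1 : Q₁ ≤ M) (h2 : Q₂ ≤ M) : M.Normal := by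
  refine ⟨fun m hm g => ?_⟩
  have h3 := eq_of_comp h hel hM h1 h2 (Cfsg.Agent.Cit.Comp.isComponent_cj hM g)
  have h4 := conj_mem_cj (g := g) hm
  rwa [h3] at h4

/-! ### two components -/

/-- (4a), `L* = U₄(3)`, `L₄(3)`: some `p` swaps `Q₁` and `Q₂`, `b ∉ [p, C(b)]⟨z⟩` -/
def Sw (z t : X) (Q₁ Q₂ : Subgroup X) (b : X) : Prop :=
  ∃ p : X, p * b = b * p ∧ p * t = t * p ∧ (∀ x ∈ Q₁, p * x * p⁻¹ ∈ Q₂) ∧
    ∀ v : X, v * b = b * v → p * (v * p⁻¹ * v⁻¹) ≠ b ∧ p * (v * p⁻¹ * v⁻¹) ≠ b * z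

/-- the three cases for every reflection -/
def RefTri' (z t : X) (Q₁ Q₂ : Subgroup X) : Prop :=
  ∀ b, Refl z t Q₁ Q₂ b → NoV z t Q₁ Q₂ b ∨ Sw z t Q₁ Q₂ b ∨ Diag z t Q₁ Q₂ b

variable {M₁ M₂ : Subgroup X}

/-- **(6)** for `L₄(3)` -/
theorem two [Finite X] (p : Pr Q₁ Q₂ M₁ M₂) (h : HypB z t a₁ a₂ Q₁ Q₂) (hel : ∀ b, Bt t Q₁ Q₂ b → b * b = 1)
    (hB2 : ∀ b c, Refl z t Q₁ Q₂ b → Refl z t Q₁ Q₂ c → T4 z t (b * c)) (hR : RefTri' z t Q₁ Q₂) : CA z := by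
  have hz₁ : z ∈ M₁ := p.zM h
  have hz₂ : z ∈ M₂ := p.symm.zM (symmB h)
  have hN₁ : ∀ b ∈ M₁, Bt t Q₁ Q₂ b → b * b ≠ z := fun b _ hb e => h.z1 (by rw [← e]; exact hel b hb)
  have hN₂ : ∀ b ∈ M₂, Bt t Q₁ Q₂ b → b * b ≠ z := fun b _ hb e => h.z1 (by rw [← e]; exact hel b hb)
  rcases exists_v h p.c₁ p.q₁ (fun m hm y hy => p.comm m hm y (p.q₂ hy)) (fun b hb hB hbb => p.inv₁ h hb hB hbb)
    with ⟨v₁, h1, h1q, h1t⟩ | ⟨W, hWp, hQW, hWM, ⟨S, hS⟩, hWB⟩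
  swap
  · refine ⟨M₁, p.c₁, hz₁, p.rank_one h hWp hQW hS hWM fun w hw hwq => ?_⟩
    rcases p.cases₁ h (hWM hw) (hWB w hw hwq) with e | e | e
    · exact Or.inl e
    · exact Or.inr e
    · exact absurd e (hN₁ w (hWM hw) (hWB w hw hwq))
  rcases exists_v (symmB h) p.c₂ p.q₂ (fun m hm y hy => (p.comm y (p.q₁ hy) m hm).symm)
    (fun b hb hB hbb => p.symm.inv₁ (symmB h) hb hB hbb)
    with ⟨v₂, h2, h2q, h2t⟩ | ⟨W, hWp, hQW, hWM, ⟨S, hS⟩, hWB⟩
  swap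
  · refine ⟨M₂, p.c₂, hz₂, p.symm.rank_one (symmB h) hWp hQW hS hWM fun w hw hwq => ?_⟩
    rcases p.symm.cases₁ (symmB h) (hWM hw) (hWB w hw hwq) with e | e | e
    · exact Or.inl e
    · exact Or.inr e
    · exact absurd e (hN₂ w (hWM hw) (bt_symm (hWB w hw hwq)))
  exfalso
  have hN₂' : ∀ b ∈ M₂, Bt t Q₂ Q₁ b → b * b ≠ z := fun b hb hB => hN₂ b hb (bt_symm hB)
  have s1 := p.sq_cases h hN₁ h1 h1q h1t
  have s2 := p.symm.sq_cases (symmB h) hN₂' h2 h2q h2t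
  have hyB := p.mul_bt h h1 h1q h1t h2 h2q h2t
  have c12 : Commute v₁ v₂ := p.comm v₁ h1 v₂ h2
  have hv12 : v₁ ∉ M₂ := fun hv => Pr.not_comm_t h h1t (p.mid_comm h h1 hv (by
    rcases s1 with e | e
    · exact Or.inl e
    · exact Or.inr (Or.inl e)))
  have hT := p.mul_not_T4 h h1 h1t h2 hv12
  have hyy : v₁ * v₂ * (v₁ * v₂) = 1 := hel _ hyB
  have hn₁ := p.exists_not_comm' h h1 h1t h2 s1
  have hn₂ : ∃ m ∈ M₂, m * (v₁ * v₂) ≠ v₁ * v₂ * m := by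
    have h3 := p.symm.exists_not_comm' (symmB h) h2 h2t h1 s2
    rwa [← c12.eq] at h3
  have hvb : v₁ * (v₁ * v₂) = v₁ * v₂ * v₁ := ((Commute.refl v₁).mul_right c12).eq
  rcases hR _ ⟨hyB, hyy, hT⟩ with hA | ⟨s, hsb, hst, hs₁, hsv⟩ | ⟨z₁, hz1, hz1z, hz11, hd₁, hd₂⟩
  · exact hA v₁ hvb h1q (fun q hq => p.comm v₁ h1 q (p.q₂ hq)) h1t
  · -- `w = v₁^s v₁⁻¹`
    have hfin := h.s₁.finite
    have hfin2 := h.s₂.finite
    have hmap : Q₁.map (MulAut.conj s).toMonoidHom = Q₂ := by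
      apply Subgroup.eq_of_le_of_card_ge
      · rintro _ ⟨x, hx, rfl⟩
        exact hs₁ x hx
      · rw [h.s₂.card, ← h.s₁.card]
        exact (Nat.card_congr (Q₁.equivMapOfInjective _ (MulAut.conj s).injective).toEquiv).le
    have hcj : cj s M₁ = M₂ := by
      apply p.uniq₂ h (Cfsg.Agent.Cit.Comp.isComponent_cj p.c₁ s)
      rw [← hmap]
      rintro _ ⟨x, hx, rfl⟩
      exact conj_mem_cj (p.q₁ hx)
    set u := s * v₁ * s⁻¹ with hu
    have huM : u ∈ M₂ := by rw [← hcj]; exact conj_mem_cj h1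
    have hut : t * u * t⁻¹ = u * z := by
      have c : Commute s t := hst
      calc t * u * t⁻¹ = (t * s) * v₁ * (t * s)⁻¹ := by rw [hu]; group
        _ = (s * t) * v₁ * (s * t)⁻¹ := by rw [c.eq]
        _ = s * (t * v₁ * t⁻¹) * s⁻¹ := by group
        _ = s * v₁ * (z * s⁻¹) := by rw [h1t]; group
        _ = s * v₁ * (s⁻¹ * z) := by rw [h.zc s⁻¹]
        _ = u * z := by rw [hu]; group
    have huq : ∀ q ∈ Q₂, u * q = q * u := by
      intro q hq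
      rw [← hmap] at hq
      obtain ⟨x, hx, rfl⟩ := hq
      show s * v₁ * s⁻¹ * (s * x * s⁻¹) = s * x * s⁻¹ * (s * v₁ * s⁻¹)
      calc s * v₁ * s⁻¹ * (s * x * s⁻¹) = s * (v₁ * x) * s⁻¹ := by group
        _ = s * (x * v₁) * s⁻¹ := by rw [h1q x hx]
        _ = s * x * s⁻¹ * (s * v₁ * s⁻¹) := by group
    have hi1 : v₁⁻¹ ∈ M₁ := M₁.inv_mem h1
    have hiq : ∀ q ∈ Q₁, v₁⁻¹ * q = q * v₁⁻¹ := fun q hq => (show Commute v₁ q from h1q q hq).inv_left.eq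
    have hit : t * v₁⁻¹ * t⁻¹ = v₁⁻¹ * z := by
      calc t * v₁⁻¹ * t⁻¹ = (t * v₁ * t⁻¹)⁻¹ := by group
        _ = z⁻¹ * v₁⁻¹ := by rw [h1t, _root_.mul_inv_rev]
        _ = z * v₁⁻¹ := by rw [inv_eq_of_mul_eq_one_right h.zz]
        _ = v₁⁻¹ * z := (h.zc _).symm
    have hi12 : v₁⁻¹ ∉ M₂ := fun e => hv12 (by
      have := M₂.inv_mem e
      rwa [inv_inv] at this)
    have hwB := p.mul_bt h hi1 hiq hit huM huq hut
    have hwT := p.mul_not_T4 h hi1 hit huM hi12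
    have hw : Refl z t Q₁ Q₂ (v₁⁻¹ * u) := ⟨hwB, hel _ hwB, hwT⟩
    have cu : Commute v₁ u := p.comm v₁ h1 u huM
    -- `[s, v₁] = v₁⁻¹ u`
    have e1 : s * (v₁ * s⁻¹ * v₁⁻¹) = v₁⁻¹ * u := by
      calc s * (v₁ * s⁻¹ * v₁⁻¹) = u * v₁⁻¹ := by rw [hu]; group
        _ = v₁⁻¹ * u := cu.symm.inv_right.eq
    obtain ⟨g1, g2⟩ := hsv v₁ hvb
    rw [e1] at g1 g2
    have hty := hB2 _ _ ⟨hyB, hyy, hT⟩ hw
    -- `v₁` commutes with `b w`
    have cv : Commute v₁ (v₁ * v₂ * (v₁⁻¹ * u)) :=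
      ((Commute.refl v₁).mul_right c12).mul_right ((Commute.refl v₁).inv_right.mul_right cu)
    have hwb : ∀ e : X, v₁ * v₂ * (v₁⁻¹ * u) = e → v₁⁻¹ * u = v₁ * v₂ * e := by
      intro e he
      have h5 : v₁ * v₂ * (v₁ * v₂) * (v₁⁻¹ * u) = v₁ * v₂ * e := by rw [mul_assoc (v₁ * v₂), he]
      rwa [hyy, one_mul] at h5
    rcases hty with e | e | e | e
    · exact g1 (by rw [hwb _ e, mul_one])
    · exact g2 (hwb _ e)
    · rw [e] at cv
      exact Pr.not_comm_t h h1t cv.eq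
    · apply Pr.not_comm_t h h1t
      have e2 : t = v₁ * v₂ * (v₁⁻¹ * u) * z := by rw [e, mul_assoc, h.zz, mul_one]
      rw [e2]
      exact (cv.mul_right (h.zc v₁)).eq
  · have hm₁ := p.diag_mem h1 h2 hn₁ hn₂ hd₁
    have hm₂ : z₁ ∈ M₂ := by
      rw [c12.eq] at hn₁ hn₂ hd₂
      exact p.symm.diag_mem h2 h1 hn₂ hn₁ hd₂
    rcases A_inv h (Cfsg.Agent.SignalizersComponents.Components.component_le_layer p.c₁ hm₁) (comm_layer p.c₁ p.c₂ p.ne hm₁ hm₂) hz11 with e | e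
    · exact hz1 e
    · exact hz1z e

end X

/-! ### in `G` -/

section G

open Cfsg.Agent.OddHalf Cfsg.Agent.OddHalf.Iface

universe u

variable {G : Type u} [Group G]

/-- **the case `R ≤ M`** -/
theorem false_of_both (hGW : SylowSp4.Hyps.GW.{u}) (I : Intr2.{u}) (hS : CaseM.IntrSign.{u}) (C : Ctx G)
    (hcy : ∀ K : Subgroup G, Std0 G K → PRankLE 2 1 ↥(centralizer (K : Set G)) → Cyc K)
    {z : G} (hz : orderOf z = 2) {z' t' a₁ a₂ : ↥(centralizer ({z} : Set G))} (hz' : (z' : G) = z)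
    {Q₁ Q₂ : Subgroup ↥(centralizer ({z} : Set G))} (h : HypB z' t' a₁ a₂ Q₁ Q₂)
    (hel : ∀ b, Bt t' Q₁ Q₂ b → b * b = 1)
    {M : Subgroup ↥(centralizer ({z} : Set G))} (hM : IsComponent M) (h1 : Q₁ ≤ M) (h2 : Q₂ ≤ M) : False := by
  have hfin := C.fin
  have hMn : M.Normal := normal h hel hM h1 h2
  have hzM : z' ∈ M := h1 h.s₁.zQ
  have hzM' : (⟨z, mem_centralizer_singleton_iff.2 rfl⟩ : ↥(centralizer ({z} : Set G))) ∈ M := by
    have : (⟨z, mem_centralizer_singleton_iff.2 rfl⟩ : ↥(centralizer ({z} : Set G))) = z' := Subtype.ext hz'.symm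
    rwa [this]
  by_cases htM : t' ∈ M ⊔ centralizer (M : Set ↥(centralizer ({z} : Set G)))
  swap
  · exact CaseC.EndComp.false_of_out_sign C hGW hS hz hM hMn hzM' h.tt (Dir.no_lam h) htM
  rcases Dir.main h hM h1 h2 hMn htM with hca | ⟨c, -, hc⟩ | ⟨Q, hQn, hzQ, -, ⟨e⟩, hQM, hQC⟩ | ⟨m, c, x, d⟩
  · exact DirEnd.no_CA hGW C hz hz' hca
  · refine CaseC.EndComp.false_of_cent I C hz hM hzM' (y := c) fun f hf => ?_
    rw [mem_centralizer_iff] at hf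
    exact hc f fun y hy => (hf y hy).symm
  · exact DirEnd.no_Q8 hGW C hcy hz hz' hM hMn hzM hQn hzQ e hQM hQC
  · exact DirG.no_DE (Front.FE.index_ne_two C) hz' h hM h1 h2 hMn d

/-- **no component of `C_G(z)` contains `Q₁` or `Q₂`** -/
theorem false_of (hGW : SylowSp4.Hyps.GW.{u}) (I : Intr2.{u}) (hS : CaseM.IntrSign.{u}) (C : Ctx G)
    (hcy : ∀ K : Subgroup G, Std0 G K → PRankLE 2 1 ↥(centralizer (K : Set G)) → Cyc K)
    {z : G} (hz : orderOf z = 2) {z' t' a₁ a₂ : ↥(centralizer ({z} : Set G))} (hz' : (z' : G) = z)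
    {Q₁ Q₂ : Subgroup ↥(centralizer ({z} : Set G))} (h : HypB z' t' a₁ a₂ Q₁ Q₂)
    (hel : ∀ b, Bt t' Q₁ Q₂ b → b * b = 1)
    (hB2 : ∀ b c, Refl z' t' Q₁ Q₂ b → Refl z' t' Q₁ Q₂ c → T4 z' t' (b * c)) (hR : RefTri' z' t' Q₁ Q₂)
    {M : Subgroup ↥(centralizer ({z} : Set G))} (hM : IsComponent M) (hQ : Q₁ ≤ M ∨ Q₂ ≤ M) : False := by
  have hfin := C.fin
  obtain ⟨p, hpt, hp₁, hp₂⟩ := h.swap
  obtain ⟨M₁, M₂, hM₁, hM₂, h1, h2⟩ : ∃ M₁ M₂ : Subgroup ↥(centralizer ({z} : Set G)), IsComponent M₁ ∧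
      IsComponent M₂ ∧ Q₁ ≤ M₁ ∧ Q₂ ≤ M₂ := by
    rcases hQ with hQ | hQ
    · exact ⟨M, cj p M, hM, Cfsg.Agent.Cit.Comp.isComponent_cj hM p, hQ, End.le_cj h.s₁ h.s₂ hp₁ hQ⟩
    · exact ⟨cj p M, M, Cfsg.Agent.Cit.Comp.isComponent_cj hM p, hM, End.le_cj h.s₂ h.s₁ hp₂ hQ, hQ⟩
  by_cases hne : M₁ = M₂
  · subst hne
    exact false_of_both hGW I hS C hcy hz hz' h hel hM₁ h1 h2
  · exact End.false_of_CA hGW C hz hz' (two ⟨hM₁, hM₂, hne, h1, h2⟩ h hel hB2 hR)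

end G

end Cfsg.Agent.OddHalf.D6.QThree.L43.Beta

end

-- merged: Cfsg.Agent.OddHalf.D6.QThree.L43.RefSw
section

/-!
# ODD half, D6, `K = L₄(3)`: the cases for a reflection (helper577; text: helper76 #17200)

* `swap_of`: an element normalising `Q₁ Q₂` fixes or swaps `Q₁`, `Q₂`;
* `exists_sw`: some element of `L ∩ C(z)` swaps `Q₁` and `Q₂`;
* `Data.tri'`: the component over `L` is `L`, has trivial centre, or is diagonal;
* `refTri`: `Beta.RefTri'` from `RefOf.Data`; `refTri_of`: from the facts on `K`.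
-/

set_option autoImplicit false

namespace Cfsg.Agent.OddHalf.D6.QThree.L43.RefSw

open Subgroup Cfsg Cfsg.Agent.OddHalf.Iface Cfsg.Agent.OddHalf.D3
open Cfsg.Agent.OddHalf.D6.QThree.Pump (SpOrd)
open Cfsg.Agent.OddHalf.D6.QThree.Diag (DiagAt)
open Cfsg.Agent.OddHalf.D6.QThree.NISide
open Cfsg.Agent.OddHalf.D6.QThree.NIB
open Cfsg.Agent.OddHalf.D6.QThree.RefOf (Data)
open Cfsg.Agent.OddHalf.D6.QThree.L43.Beta (Sw RefTri')
open Cfsg.Agent.OddHalf.D6.QThree.RefData (KH Rf DD)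

universe u

section X

variable {X : Type*} [Group X] {z t a₁ a₂ : X} {Q₁ Q₂ : Subgroup X}

/-- the elements of `Q₁ Q₂` with square `z` -/
theorem mem_or (s₁ : Side z t a₁ Q₁ Q₂) (s₂ : Side z t a₂ Q₂ Q₁) (z1 : z ≠ 1)
    (comm : ∀ x ∈ Q₁, ∀ y ∈ Q₂, x * y = y * x) {x y : X} (hx : x ∈ Q₁) (hy : y ∈ Q₂) (h : x * y * (x * y) = z) :
    x * y ∈ Q₁ ∨ x * y ∈ Q₂ := by
  have c : Commute x y := comm x hx y hy
  have h1 : (x * x) * (y * y) = z := by
    rw [← h]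
    calc x * x * (y * y) = x * (x * y) * y := by group
      _ = x * (y * x) * y := by rw [c.eq]
      _ = x * y * (x * y) := by group
  by_cases hx1 : x = 1
  · right; rw [hx1, one_mul]; exact hy
  by_cases hxz : x = z
  · right; rw [hxz]; exact Q₂.mul_mem s₂.zQ hy
  left
  rw [s₁.sq x hx hx1 hxz] at h1
  have hyy : y * y = 1 := mul_eq_left.1 h1
  have hy' : y = 1 ∨ y = z := by
    by_contra hne
    push Not at hne
    have := s₂.sq y hy hne.1 hne.2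
    rw [hyy] at this
    exact z1 this.symm
  rcases hy' with e | e
  · rw [e, mul_one]; exact hx
  · rw [e]; exact Q₁.mul_mem hx s₁.zQ

/-- an element normalising `Q₁ Q₂` which does not normalise `Q₁` maps `Q₁` into `Q₂` -/
theorem swap_of (s₁ : Side z t a₁ Q₁ Q₂) (s₂ : Side z t a₂ Q₂ Q₁) (zc : ∀ x : X, x * z = z * x) (zz : z * z = 1)
    (z1 : z ≠ 1) (comm : ∀ x ∈ Q₁, ∀ y ∈ Q₂, x * y = y * x) {g : X}
    (hg : ∀ x ∈ Q₁, ∃ x' ∈ Q₁, ∃ y' ∈ Q₂, g * x * g⁻¹ = x' * y') {x : X} (hx : x ∈ Q₁) (hgx : g * x * g⁻¹ ∉ Q₁) :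
    ∀ y ∈ Q₁, g * y * g⁻¹ ∈ Q₂ := by
  have hgz : g * z * g⁻¹ = z := by rw [zc g, mul_inv_cancel_right]
  have key : ∀ y ∈ Q₁, g * y * g⁻¹ ∈ Q₁ ∨ g * y * g⁻¹ ∈ Q₂ := by
    intro y hy
    by_cases hy1 : y = 1
    · left; rw [hy1, mul_one, mul_inv_cancel]; exact Q₁.one_mem
    by_cases hyz : y = z
    · left; rw [hyz, hgz]; exact s₁.zQ
    obtain ⟨x', hx', y', hy', e⟩ := hg y hy
    rw [e]
    apply mem_or s₁ s₂ z1 comm hx' hy'
    rw [← e]
    calc g * y * g⁻¹ * (g * y * g⁻¹) = g * (y * y) * g⁻¹ := by group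
      _ = z := by rw [s₁.sq y hy hy1 hyz, hgz]
  have hx1 : x ≠ 1 := by
    rintro rfl
    apply hgx
    rw [mul_one, mul_inv_cancel]; exact Q₁.one_mem
  have hxz : x ≠ z := by
    rintro rfl
    apply hgx
    rw [hgz]; exact s₁.zQ
  have hgx2 : g * x * g⁻¹ ∈ Q₂ := (key x hx).resolve_left hgx
  intro y hy
  by_cases hy1 : y = 1
  · rw [hy1, mul_one, mul_inv_cancel]; exact Q₂.one_mem
  by_cases hyz : y = z
  · rw [hyz, hgz]; exact s₂.zQ
  by_cases hxy : x * y = y * x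
  · rcases TS.Rad.E_of_comm s₁ zc zz z1 hx hy hx1 hxz hy1 hyz hxy with e | e
    · rw [e]; exact hgx2
    · rw [e]
      have e1 : g * (x * z) * g⁻¹ = (g * x * g⁻¹) * (g * z * g⁻¹) := by group
      rw [e1, hgz]
      exact Q₂.mul_mem hgx2 s₂.zQ
  · rcases key y hy with h1 | h1
    · exfalso
      apply hxy
      have h2 := comm _ h1 _ hgx2
      have h3 : g * (y * x) * g⁻¹ = g * (x * y) * g⁻¹ := by
        calc g * (y * x) * g⁻¹ = (g * y * g⁻¹) * (g * x * g⁻¹) := by group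
          _ = (g * x * g⁻¹) * (g * y * g⁻¹) := h2
          _ = g * (x * y) * g⁻¹ := by group
      exact (mul_left_cancel (mul_right_cancel h3)).symm
    · exact h1

end X

variable {G : Type u} [Group G] {t z b : G} {D R L : Subgroup G} {F : Type} [Field F] [Fintype F]

/-- **the swap**: some element of `L ∩ C(z)` maps `Q₁` to `Q₂` -/
theorem exists_sw [Finite G] (h : Data t z b D R L F) {z' t' a₁ a₂ : ↥(centralizer ({z} : Set G))}
    {Q₁ Q₂ : Subgroup ↥(centralizer ({z} : Set G))} (hz' : (z' : G) = z) (s₁ : Side z' t' a₁ Q₁ Q₂)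
    (s₂ : Side z' t' a₂ Q₂ Q₁) (comm : ∀ x ∈ Q₁, ∀ y ∈ Q₂, x * y = y * x)
    (hR : ∀ r : G, r ∈ R ↔ ∃ x ∈ Q₁, ∃ y ∈ Q₂, r = (x : G) * y) :
    ∃ p : ↥(centralizer ({z} : Set G)), (p : G) ∈ L ∧ ∀ x ∈ Q₁, p * x * p⁻¹ ∈ Q₂ := by
  have zc : ∀ x : ↥(centralizer ({z} : Set G)), x * z' = z' * x := fun x => by
    apply Subtype.ext
    show (x : G) * z' = z' * x
    rw [hz']; exact mem_centralizer_singleton_iff.1 x.2
  have zz : z' * z' = 1 := by
    apply Subtype.ext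
    show (z' : G) * z' = 1
    rw [hz']; exact h.zz
  have z1 : z' ≠ 1 := fun e => h.z1 (by rw [← hz', e]; rfl)
  have hQR : ∀ x ∈ Q₁, (x : G) ∈ R := fun x hx => (hR _).2 ⟨x, hx, 1, Q₂.one_mem, (mul_one _).symm⟩
  have hQR2 : ∀ x ∈ Q₂, (x : G) ∈ R := fun x hx => (hR _).2 ⟨1, Q₁.one_mem, x, hx, (one_mul _).symm⟩
  have hRL : R ≤ L := h.RD.trans h.DL
  by_contra hcon
  push Not at hcon
  have hnor : ∀ p : ↥(centralizer ({z} : Set G)), (p : G) ∈ L → ∀ x ∈ Q₁, p * x * p⁻¹ ∈ Q₁ := by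
    intro p hp x hx
    by_contra hne
    obtain ⟨y, hy, hy'⟩ := hcon p hp
    refine hy' (swap_of s₁ s₂ zc zz z1 comm (fun w hw => ?_) hx hne y hy)
    have h1 := h.nR p hp (mem_centralizer_singleton_iff.1 p.2) w (hQR w hw)
    obtain ⟨x', hx', y', hy', e⟩ := (hR _).1 h1
    exact ⟨x', hx', y', hy', Subtype.ext e⟩
  set N : Subgroup L := (Q₁.map (centralizer ({z} : Set G)).subtype).subgroupOf L with hN
  have hNm : ∀ n : L, n ∈ N ↔ ∃ x ∈ Q₁, (x : G) = n := fun n => by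
    rw [hN, mem_subgroupOf]
    exact ⟨fun ⟨x, hx, e⟩ => ⟨x, hx, e⟩, fun ⟨x, hx, e⟩ => ⟨x, hx, e⟩⟩
  have hNR : N ≤ R.subgroupOf L := by
    intro n hn
    obtain ⟨x, hx, e⟩ := (hNm n).1 hn
    rw [mem_subgroupOf, ← e]
    exact hQR x hx
  rcases h.facts.1.irr N hNR (by
    intro g hg n hn
    obtain ⟨x, hx, e⟩ := (hNm n).1 hn
    rw [hNm]
    have hgz : (g : G) * z = z * g := congrArg Subtype.val hg
    refine ⟨_, hnor ⟨g, mem_centralizer_singleton_iff.2 hgz⟩ g.2 x hx, ?_⟩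
    show (g : G) * x * (g : G)⁻¹ = g * n * (g : G)⁻¹
    rw [e]) with h1 | h1
  · obtain ⟨i, hi, i1, iz⟩ := NIB.DiagOf.exists_ne s₁
    rcases h1 ⟨i, hRL (hQR i hi)⟩ ((hNm _).2 ⟨i, hi, rfl⟩) with e | e
    · apply i1
      apply Subtype.ext
      exact congrArg (Subtype.val : L → G) e
    · apply iz
      apply Subtype.ext
      rw [hz']
      exact congrArg (Subtype.val : L → G) e
  · -- `Q₂ ≤ Q₁`
    have h2 : ∀ y ∈ Q₂, y ∈ Q₁ := by
      intro y hy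
      have h3 : (⟨y, hRL (hQR2 y hy)⟩ : L) ∈ N := by
        rw [h1, mem_subgroupOf]
        exact hQR2 y hy
      obtain ⟨x, hx, e⟩ := (hNm _).1 h3
      have : x = y := Subtype.ext e
      rwa [← this]
    exact s₂.not_comm fun x hx y hy => comm x (h2 x hx) y hy

theorem center_of_card {M : Type*} [Group M] [Finite M] {X : Type*} [Group X] {n m : ℕ}
    (e : M ⧸ center M ≃* X) (hX : Nat.card X = n) (hM : Nat.card M ≤ m) (hm : m < 2 * n) : center M = ⊥ := by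
  have h1 := card_eq_card_quotient_mul_card_subgroup (center M)
  rw [Nat.card_congr e.toEquiv, hX] at h1
  have h2 : Nat.card (center M) = 1 := by
    have h3 : 0 < Nat.card (center M) := Nat.card_pos
    by_contra h4
    have h5 : 2 ≤ Nat.card (center M) := by omega
    have h6 : n * 2 ≤ n * Nat.card (center M) := Nat.mul_le_mul_left _ h5
    omega
  exact (card_eq_one).1 h2

/-- **the component of `C(b)` over `L`** -/
theorem tri' (h : Data t z b D R L F) (C : Ctx G) (hS : SpOrd.{u}) {K : Subgroup G} (S : Std G K)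
    (hK : Nat.card K < 6531840) (hN : ∀ K : Subgroup G, CompOf b K → ¬ NI3.HasY ↥K) :
    Comp b L ∨
    (∃ M : Subgroup G, Comp b M ∧ L ≤ M ∧ center M = ⊥) ∨
    ∃ M : Subgroup G, Comp b M ∧ cj t M ≠ M ∧ DiagAt t z b D M L := by
  have := C.fin
  have heven : 2 ∣ Nat.card L := by rw [h.card_L]; norm_num
  obtain ⟨M, hM, h1 | ⟨h1, h2⟩ | ⟨h1, h2, h3⟩⟩ := D8.PumpX.pump (C.bal b h.b_ord) h.tt h.bt
    (fun l hl => mem_cs.2 (h.Lb l hl)) (fun l hl => mem_cs.2 (h.Lt l hl)) h.quasi_L heven h.sub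
  · left
    rw [h1]
    exact hM
  · have hLM := h1.le
    have hc := h.card_le C S hM hLM h2
    rcases h.types C hS S hK.le hM hLM h2 with h3 | ⟨E, i1, i2, h3, ⟨e⟩⟩ | ⟨E, i1, i2, h3, ⟨e⟩⟩
    · left
      rw [le_antisymm hLM h3]
      exact hM
    · right; left
      have : Fact (Nat.Prime 3) := ⟨Nat.prime_three⟩
      have : CharP E 3 := charP_of_card_eq_prime_pow (f := 2) (by rw [h3]; norm_num)
      exact ⟨M, hM, hLM, center_of_card e (U43Tw.card_K h3) hc (by omega)⟩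
    · right; left
      refine ⟨M, hM, hLM, ?_⟩
      obtain ⟨e2⟩ := Cfsg.Agent.LargeExtra.W2.LFour.PslFacts.psl_congr E h3
      have h4 : Nat.card (Matrix.ProjectiveSpecialLinearGroup (Fin 4) E) = 6065280 := by
        rw [Nat.card_congr e2.symm.toEquiv, Cfsg.Agent.LargeExtra.W2.LFour.PslFacts.card_psl]
      exact center_of_card e h4 hc (by omega)
  · right; right
    exact ⟨M, hM, h1, h.diagAt C hN hM h1 h2 h3⟩

/-- **`RefTri'`** from `RefOf.Data` for every reflection -/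
theorem refTri (C : Ctx G) (hS : SpOrd.{u}) {K : Subgroup G} (S : Std G K) (hK : Nat.card K < 6531840)
    (hN : ∀ c : G, c * c = 1 → c ≠ 1 → ∀ K : Subgroup G, CompOf c K → ¬ NI3.HasY ↥K)
    {z' t' a₁ a₂ : ↥(centralizer ({z} : Set G))} {Q₁ Q₂ : Subgroup ↥(centralizer ({z} : Set G))}
    (hz' : (z' : G) = z) (ht' : (t' : G) = t) (s₁ : Side z' t' a₁ Q₁ Q₂) (s₂ : Side z' t' a₂ Q₂ Q₁)
    (comm : ∀ x ∈ Q₁, ∀ y ∈ Q₂, x * y = y * x) (oa₁ : Odd (orderOf a₁)) (oa₂ : Odd (orderOf a₂))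
    (h₁ : (a₁ : G) ∈ D) (h₂ : (a₂ : G) ∈ D) (hR : ∀ r : G, r ∈ R ↔ ∃ x ∈ Q₁, ∃ y ∈ Q₂, r = (x : G) * y)
    (hdata : ∀ c : ↥(centralizer ({z} : Set G)), Refl z' t' Q₁ Q₂ c →
      ∃ (L : Subgroup G) (F : Type) (_ : Field F) (_ : Fintype F), Data t z c D R L F) : RefTri' z' t' Q₁ Q₂ := by
  intro c hc
  have := C.fin
  obtain ⟨L, F, _, _, h⟩ := hdata c hc
  have hQR : ∀ x ∈ Q₁, (x : G) ∈ R := fun x hx => (hR _).2 ⟨x, hx, 1, Q₂.one_mem, (mul_one _).symm⟩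
  have hQR2 : ∀ x ∈ Q₂, (x : G) ∈ R := fun x hx => (hR _).2 ⟨1, Q₁.one_mem, x, hx, (one_mul _).symm⟩
  have czG : (c : G) * z = z * c := mem_centralizer_singleton_iff.1 c.2
  rcases tri' h C hS S hK (hN c h.bb h.b1) with hL | ⟨M, hM, hLM, hZ⟩ | ⟨M, hM, -, A⟩
  · left
    intro v hvc hv₁ hv₂ hvt
    refine h.noV hL (v := v) (congrArg Subtype.val hvc) ?_ ?_
    · intro r hr
      obtain ⟨x, hx, y, hy, rfl⟩ := (hR r).1 hr
      have c1 : Commute (v : G) x := congrArg Subtype.val (hv₁ x hx)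
      have c2 : Commute (v : G) y := congrArg Subtype.val (hv₂ y hy)
      exact (c1.mul_right c2).eq
    · have h1 : (t' : G) * v * (t' : G)⁻¹ = v * z' := congrArg Subtype.val hvt
      rwa [ht', hz'] at h1
  · right; left
    obtain ⟨p, hp, hps⟩ := exists_sw h hz' s₁ s₂ comm hR
    have hcM : (c : G) ∉ M := by
      intro hcM
      have h1 : (⟨c, hcM⟩ : M) ∈ center M := by
        rw [mem_center_iff]
        intro g
        exact Subtype.ext (mem_cs.1 (hM.le g.2))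
      rw [hZ, mem_bot] at h1
      exact h.b1 (congrArg Subtype.val h1)
    refine ⟨p, Subtype.ext (h.Lb p hp), Subtype.ext (by
      show (p : G) * t' = t' * p
      rw [ht']; exact h.Lt p hp), hps, fun v hv => ?_⟩
    have hvM : cj (v : G) M = M := h.cj_eq hM hLM (congrArg Subtype.val hv) (mem_centralizer_singleton_iff.1 v.2)
    have hw : ((p * (v * p⁻¹ * v⁻¹) : ↥(centralizer ({z} : Set G))) : G) ∈ M := by
      refine M.mul_mem (hLM hp) ?_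
      have h1 := conj_mem_cj (g := (v : G)) (M.inv_mem (hLM hp))
      rw [hvM] at h1
      exact h1
    refine ⟨fun e => ?_, fun e => ?_⟩
    · apply hcM
      rw [e] at hw
      exact hw
    · apply hcM
      rw [e] at hw
      have h2 : (c : G) * z' ∈ M := hw
      rw [hz'] at h2
      exact (mul_mem_cancel_right (hLM h.zL)).1 h2
  · right; right
    exact NIB.DiagOf.diag A h.zz h.z1 hz' ht' rfl s₁ s₂ oa₁ oa₂ (fun q hq => h.RD (hQR q hq))
      (fun q hq => h.RD (hQR2 q hq)) h₁ h₂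

/-- `R` in terms of `Q₁`, `Q₂` -/
theorem mem_R_iff {K : Subgroup G} {z : K} {R : Subgroup K} {i j k l a b : K} (h : KH z R i j k l a b)
    {Q₁ Q₂ : Subgroup ↥(centralizer ({(z : G)} : Set G))}
    (e₁ : ∀ y : ↥(centralizer ({(z : G)} : Set G)), y ∈ Q₁ ↔ (y : G) ∈ closure ({(i : G), (j : G)} : Set G))
    (e₂ : ∀ y : ↥(centralizer ({(z : G)} : Set G)), y ∈ Q₂ ↔ (y : G) ∈ closure ({(k : G), (l : G)} : Set G)) (r : G) :
    r ∈ R.map K.subtype ↔ ∃ x ∈ Q₁, ∃ y ∈ Q₂, r = (x : G) * y := by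
  have m₁ : (closure ({i, j} : Set K)).map K.subtype = closure ({(i : G), (j : G)} : Set G) := by
    rw [MonoidHom.map_closure]
    congr 1
    simp [Set.image_insert_eq]
  have m₂ : (closure ({k, l} : Set K)).map K.subtype = closure ({(k : G), (l : G)} : Set G) := by
    rw [MonoidHom.map_closure]
    congr 1
    simp [Set.image_insert_eq]
  have l₁ : closure ({i, j} : Set K) ≤ R := by
    rw [closure_le]
    rintro x (rfl | rfl)
    exacts [h.iR, h.jR]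
  have l₂ : closure ({k, l} : Set K) ≤ R := by
    rw [closure_le]
    rintro x (rfl | rfl)
    exacts [h.kR, h.lR]
  constructor
  · rintro ⟨r, hr, rfl⟩
    have hr' : r ∈ closure ({i, j, k, l} : Set K) := by rw [← h.gR]; exact hr
    obtain ⟨x, hx, y, hy, rfl⟩ := h.fr.exists_mul hr'
    rw [h.fr.Q₁_eq] at hx
    rw [h.fr.Q₂_eq] at hy
    refine ⟨⟨x, mem_centralizer_singleton_iff.2 (congrArg Subtype.val (h.RP x (l₁ hx)))⟩, ?_,
      ⟨y, mem_centralizer_singleton_iff.2 (congrArg Subtype.val (h.RP y (l₂ hy)))⟩, ?_, rfl⟩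
    · rw [e₁, ← m₁]
      exact ⟨x, hx, rfl⟩
    · rw [e₂, ← m₂]
      exact ⟨y, hy, rfl⟩
  · rintro ⟨x, hx, y, hy, rfl⟩
    rw [e₁, ← m₁] at hx
    rw [e₂, ← m₂] at hy
    obtain ⟨x', hx', ex⟩ := hx
    obtain ⟨y', hy', ey⟩ := hy
    rw [← ex, ← ey]
    exact ⟨x' * y', R.mul_mem (l₁ hx') (l₂ hy'), rfl⟩

/-- the position of every reflection -/
theorem data_of {K : Subgroup G} {t : G} (tt : t * t = 1) (t1 : t ≠ 1) (Kt : ∀ x ∈ K, x * t = t * x)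
    (nK : ∀ g, g * t = t * g → g ∈ normalizer (K : Set G))
    (cK : ∀ c, c * t = t * c → (∀ x ∈ K, x * c = c * x) → c = 1 ∨ c = t)
    {z : K} {R : Subgroup K} {i j k l a b : K} (h : KH z R i j k l a b) (hRf : Rf z R)
    {z' t' : ↥(centralizer ({(z : G)} : Set G))} {Q₁ Q₂ : Subgroup ↥(centralizer ({(z : G)} : Set G))}
    (hz' : (z' : G) = z) (ht' : (t' : G) = t)
    (e₁ : ∀ y : ↥(centralizer ({(z : G)} : Set G)), y ∈ Q₁ ↔ (y : G) ∈ closure ({(i : G), (j : G)} : Set G))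
    (e₂ : ∀ y : ↥(centralizer ({(z : G)} : Set G)), y ∈ Q₂ ↔ (y : G) ∈ closure ({(k : G), (l : G)} : Set G))
    (c : ↥(centralizer ({(z : G)} : Set G))) (hc : Refl z' t' Q₁ Q₂ c) :
    ∃ (L : Subgroup G) (F : Type) (_ : Field F) (_ : Fintype F),
      Data t (z : G) c ((DD i j k l a b).map K.subtype) (R.map K.subtype) L F := by
  obtain ⟨⟨hct, hc₁, hc₂⟩, hcc, hT⟩ := hc
  have ctG : (c : G) * t = t * c := by
    have := congrArg Subtype.val hct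
    rw [← ht']; exact this
  have hzz : (z : G) * z = 1 := congrArg Subtype.val h.zz
  have htz : t * z = z * t := (Kt z z.2).symm
  have tcoe : ∀ {w : G}, (c : G) = w → ∀ w' : ↥(centralizer ({(z : G)} : Set G)), (w' : G) = w → c = w' :=
    fun e w' e' => Subtype.ext (e.trans e'.symm)
  obtain ⟨L, F, i1, i2, hD, -⟩ := RefData.data tt t1 Kt nK h hRf (c := (c : G)) (congrArg Subtype.val hcc) ctG (by
    intro r hr
    obtain ⟨x, hx, y, hy, e⟩ := (mem_R_iff h e₁ e₂ (r : G)).1 ⟨r, hr, rfl⟩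
    rw [e]
    have c1 : Commute (c : G) x := congrArg Subtype.val (hc₁ x hx)
    have c2 : Commute (c : G) y := congrArg Subtype.val (hc₂ y hy)
    exact (c1.mul_right c2).eq) (by
    intro hcK
    rcases cK c ctG (fun x hx => (hcK x hx).symm) with e | e
    · exact hT (Or.inl (tcoe e 1 rfl))
    · exact hT (Or.inr (Or.inr (Or.inl (tcoe e t' ht'))))) (by
    intro hcK
    have h1 : ((c : G) * z) * t = t * ((c : G) * z) :=
      ((show Commute (c : G) t from ctG).mul_left (show Commute (z : G) t from htz.symm)).eq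
    have h2 : (c : G) = ((c : G) * z) * z := by rw [mul_assoc, hzz, mul_one]
    rcases cK _ h1 (fun x hx => (hcK x hx).symm) with e | e
    · rw [e, one_mul] at h2
      exact hT (Or.inr (Or.inl (tcoe h2 z' hz')))
    · rw [e] at h2
      exact hT (Or.inr (Or.inr (Or.inr (tcoe h2 (t' * z') (by
        show (t' : G) * z' = t * z
        rw [ht', hz'])))))) 
  exact ⟨L, F, i1, i2, hD⟩

/-- **`RefTri'`** from the facts on `K` -/
theorem refTri_of (C : Ctx G) (hS : SpOrd.{u}) {K : Subgroup G} (S : Std G K) (hK : Nat.card K < 6531840)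
    (hN : ∀ c : G, c * c = 1 → c ≠ 1 → ∀ K : Subgroup G, CompOf c K → ¬ NI3.HasY ↥K)
    {t : G} (tt : t * t = 1) (t1 : t ≠ 1) (Kt : ∀ x ∈ K, x * t = t * x)
    (nK : ∀ g, g * t = t * g → g ∈ normalizer (K : Set G))
    (cK : ∀ c, c * t = t * c → (∀ x ∈ K, x * c = c * x) → c = 1 ∨ c = t)
    {z : K} {R : Subgroup K} {i j k l a b : K} (h : KH z R i j k l a b) (hRf : Rf z R)
    {z' t' a₁ a₂ : ↥(centralizer ({(z : G)} : Set G))} {Q₁ Q₂ : Subgroup ↥(centralizer ({(z : G)} : Set G))}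
    (hz' : (z' : G) = z) (ht' : (t' : G) = t) (s₁ : Side z' t' a₁ Q₁ Q₂) (s₂ : Side z' t' a₂ Q₂ Q₁)
    (comm : ∀ x ∈ Q₁, ∀ y ∈ Q₂, x * y = y * x) (ha₁ : (a₁ : G) = a) (ha₂ : (a₂ : G) = b)
    (e₁ : ∀ y : ↥(centralizer ({(z : G)} : Set G)), y ∈ Q₁ ↔ (y : G) ∈ closure ({(i : G), (j : G)} : Set G))
    (e₂ : ∀ y : ↥(centralizer ({(z : G)} : Set G)), y ∈ Q₂ ↔ (y : G) ∈ closure ({(k : G), (l : G)} : Set G)) :
    RefTri' z' t' Q₁ Q₂ := by
  have ho : ∀ {w : ↥(centralizer ({(z : G)} : Set G))} {x : K}, (w : G) = x → Odd (orderOf x) → Odd (orderOf w) := by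
    intro w x e ho
    rw [← Subgroup.orderOf_coe w, e, Subgroup.orderOf_coe]
    exact ho
  exact refTri (D := (DD i j k l a b).map K.subtype) (R := R.map K.subtype) C hS S hK hN hz' ht' s₁ s₂ comm
    (ho ha₁ h.oa) (ho ha₂ h.ob) (by rw [ha₁]; exact ⟨a, subset_closure (by simp), rfl⟩)
    (by rw [ha₂]; exact ⟨b, subset_closure (by simp), rfl⟩) (mem_R_iff h e₁ e₂)
    (data_of tt t1 Kt nK cK h hRf hz' ht' e₁ e₂)

end Cfsg.Agent.OddHalf.D6.QThree.L43.RefSw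

end
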