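import Cfsg.Agent.OddHalf.D6.QThree.FrontB
import Cfsg.Agent.OddHalf.D6.QThree.L43.KFront
import Cfsg.Agent.OddHalf.D6.QThree.L43.RefSw
import Cfsg.Agent.OddHalf.D6.QThree.FrontInstB
import Cfsg.Agent.OddHalf.D6.QThree.FrontLocOf
import Cfsg.Agent.OddHalf.D6.QThree.RefData

-- merged: Cfsg.Agent.OddHalf.D6.QThree.L43.Front
section

/-!
# ODD half, D6, `K = L₄(3)`, any outer part: the front end of the case `T < S` (helper76, bb #17200 (F))

`T` a Sylow 2-subgroup of `C(t)`, not a Sylow 2-subgroup of `G`. If `N(T)` fixes `z` and `ν : C(t) → {±1}` is `-1` on the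
involutions of `Z(T)` outside `⟨t, z⟩`, then some element of `N(T)` maps `t` to `tz` (`exists_swap`).
-/

set_option autoImplicit false

namespace Cfsg.Agent.OddHalf.D6.QThree.L43.Front

open Subgroup MulAction Cfsg Cfsg.Agent.OddHalf.Front.FE Cfsg.Agent.OddHalf.Front Cfsg.Agent.OddHalf.D8.GlueE
open Cfsg.Agent.OddHalf.Front.Cyclic (mem_M KQ conjK conjK' conjQ inv_comm mul_comm' M_unique)
open Cfsg.Agent.OddHalf.D6.QThree.FrontB
open Cfsg.Agent.OddHalf.D6.QThree.TransferMu (transfer_eq_prod_fixed)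
open Cfsg.Agent.OddHalf.D6.QThree.TransferMu.Env (comm_iff)

universe u

variable {G : Type u} [Group G] {K : Subgroup G} {t q z : G} {T : Subgroup G}

/-- two maximal 2-subgroups of `C(t)` -/
theorem exists_norm [Finite G] (pT : IsPGroup 2 T)
    (tc : ∀ x ∈ T, x * t = t * x)
    (max : ∀ P : Subgroup G, IsPGroup 2 P → T ≤ P → (∀ x ∈ P, x * t = t * x) → P ≤ T) {g : G}
    (hg : ∀ x ∈ T, g⁻¹ * x * g * t = t * (g⁻¹ * x * g)) :
    ∃ c, c * t = t * c ∧ g * c ∈ normalizer (T : Set G) := by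
  have hf : Fact (Nat.Prime 2) := ⟨Nat.prime_two⟩
  set C : Subgroup G := centralizer ({t} : Set G) with hC
  have hTC : T ≤ C := fun x hx => mem_centralizer_singleton_iff.2 (tc x hx)
  have hTp : IsPGroup 2 ↥(T.subgroupOf C) := pT.comap_of_injective C.subtype C.subtype_injective
  obtain ⟨P, hP⟩ := hTp.exists_le_sylow
  have hPT : (P : Subgroup C).map C.subtype ≤ T := by
    apply max _ (P.isPGroup'.map _)
    · intro x hx
      exact ⟨⟨x, hTC hx⟩, hP (mem_subgroupOf.2 hx), rfl⟩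
    · rintro _ ⟨x, -, rfl⟩
      exact mem_centralizer_singleton_iff.1 x.2
  set U : Subgroup G := T.map (MulAut.conj g⁻¹).toMonoidHom with hU
  have hUC : U ≤ C := by
    rintro _ ⟨x, hx, rfl⟩
    have e : (MulAut.conj g⁻¹).toMonoidHom x = g⁻¹ * x * g := by
      show MulAut.conj g⁻¹ x = _
      rw [MulAut.conj_apply, inv_inv]
    rw [e]
    exact mem_centralizer_singleton_iff.2 (hg x hx)
  have hUp : IsPGroup 2 ↥(U.subgroupOf C) :=
    (pT.map _).comap_of_injective C.subtype C.subtype_injective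
  obtain ⟨P', hP'⟩ := hUp.exists_le_sylow
  obtain ⟨c, hc⟩ := exists_smul_eq C P' P
  -- `c g⁻¹ T g c⁻¹ ≤ T`
  have hle : ∀ x ∈ T, (c : G) * (g⁻¹ * x * g) * (c : G)⁻¹ ∈ T := by
    intro x hx
    have h1 : g⁻¹ * x * g ∈ U := ⟨x, hx, by
      show MulAut.conj g⁻¹ x = _
      rw [MulAut.conj_apply, inv_inv]⟩
    have h2 : (⟨g⁻¹ * x * g, hUC h1⟩ : C) ∈ (P' : Subgroup C) := hP' (mem_subgroupOf.2 h1)
    have h3 : c * ⟨g⁻¹ * x * g, hUC h1⟩ * c⁻¹ ∈ (P : Subgroup C) := by
      rw [← hc]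
      exact Subgroup.smul_mem_pointwise_smul _ (MulAut.conj c) _ h2
    exact hPT ⟨_, h3, rfl⟩
  refine ⟨(c : G)⁻¹, inv_comm (mem_centralizer_singleton_iff.1 c.2), ?_⟩
  -- `n = (g c⁻¹)⁻¹` maps `T` to `T`
  have hn : ((g * (c : G)⁻¹)⁻¹) ∈ normalizer (T : Set G) := by
    have h4 : T.map (MulAut.conj ((g * (c : G)⁻¹)⁻¹)).toMonoidHom = T := by
      apply Subgroup.eq_of_le_of_card_ge
      · rintro _ ⟨x, hx, rfl⟩
        have := hle x hx
        have e : (MulAut.conj ((g * (c : G)⁻¹)⁻¹)).toMonoidHom x = (c : G) * (g⁻¹ * x * g) * (c : G)⁻¹ := by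
          show MulAut.conj ((g * (c : G)⁻¹)⁻¹) x = _
          rw [MulAut.conj_apply]; group
        rw [e]; exact this
      · exact (Nat.card_congr (T.equivMapOfInjective (MulAut.conj ((g * (c : G)⁻¹)⁻¹)).toMonoidHom
          (MulAut.conj ((g * (c : G)⁻¹)⁻¹)).injective).toEquiv).le
    rw [mem_normalizer_iff]
    intro x
    constructor
    · intro hx
      have h5 : MulAut.conj ((g * (c : G)⁻¹)⁻¹) x ∈ T.map (MulAut.conj ((g * (c : G)⁻¹)⁻¹)).toMonoidHom := ⟨x, hx, rfl⟩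
      rw [h4, MulAut.conj_apply] at h5
      exact h5
    · intro hx
      have h5 : MulAut.conj ((g * (c : G)⁻¹)⁻¹) x ∈ T.map (MulAut.conj ((g * (c : G)⁻¹)⁻¹)).toMonoidHom := by
        rw [h4, MulAut.conj_apply]; exact hx
      obtain ⟨y, hy, hyx⟩ := h5
      have h6 : y = x := (MulAut.conj ((g * (c : G)⁻¹)⁻¹)).injective hyx
      rw [← h6]; exact hy
  have := inv_mem hn
  rwa [inv_inv] at this

/-- the index of `C(t)` is even if `T` is not a Sylow 2-subgroup of `G` -/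
theorem even_index [Finite G] (pT : IsPGroup 2 T) (tc : ∀ x ∈ T, x * t = t * x)
    (max : ∀ P : Subgroup G, IsPGroup 2 P → T ≤ P → (∀ x ∈ P, x * t = t * x) → P ≤ T)
    (hns : ∀ S : Sylow 2 G, (S : Subgroup G) ≠ T) : Even (centralizer ({t} : Set G)).index := by
  have hf : Fact (Nat.Prime 2) := ⟨Nat.prime_two⟩
  by_contra hodd
  rw [Nat.not_even_iff_odd] at hodd
  set C : Subgroup G := centralizer ({t} : Set G) with hC
  have hTC : T ≤ C := fun x hx => mem_centralizer_singleton_iff.2 (tc x hx)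
  have hTp : IsPGroup 2 ↥(T.subgroupOf C) := pT.comap_of_injective C.subtype C.subtype_injective
  obtain ⟨P, hP⟩ := hTp.exists_le_sylow
  have hPT : (P : Subgroup C) = T.subgroupOf C := by
    apply le_antisymm _ hP
    intro x hx
    rw [mem_subgroupOf]
    apply max ((P : Subgroup C).map C.subtype) (P.isPGroup'.map _)
    · intro y hy
      exact ⟨⟨y, hTC hy⟩, hP (mem_subgroupOf.2 hy), rfl⟩
    · rintro _ ⟨y, -, rfl⟩
      exact mem_centralizer_singleton_iff.1 y.2
    · exact ⟨x, hx, rfl⟩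
  have h1 : ¬ 2 ∣ (P : Subgroup C).index := P.not_dvd_index
  rw [hPT] at h1
  have h2 : ¬ 2 ∣ T.index := by
    rw [← relIndex_mul_index hTC]
    intro h
    rcases (Nat.prime_two.dvd_mul).1 h with h | h
    · exact h1 h
    · exact (Nat.not_even_iff_odd.2 hodd) (even_iff_two_dvd.2 h)
  exact hns (pT.toSylow h2) rfl

theorem prod_neg {α : Type*} [DecidableEq α] (s : Finset α) (f : α → ℤˣ) (a : α) (ha : a ∈ s) (h1 : f a = 1)
    (h : ∀ x ∈ s, x ≠ a → f x = -1) (he : Even s.card) : ∏ x ∈ s, f x = -1 := by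
  rw [← Finset.mul_prod_erase s f ha, h1, one_mul,
    Finset.prod_congr rfl (fun x hx => h x (Finset.mem_of_mem_erase hx) (Finset.ne_of_mem_erase hx)),
    Finset.prod_const, Finset.card_erase_of_mem ha]
  apply Odd.neg_one_pow
  have hpos : 0 < s.card := Finset.card_pos.2 ⟨a, ha⟩
  obtain ⟨k, hk⟩ := he
  exact ⟨k - 1, by omega⟩

/-- **(F2)**: some element of `N(T)` maps `t` to `tz` -/
theorem exists_swap [Finite G] (F : FB K t q z T) (hG : ∀ H : Subgroup G, H.index ≠ 2)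
    (zN : ∀ n ∈ normalizer (T : Set G), n * z * n⁻¹ = z) (ν : centralizer ({t} : Set G) →* ℤˣ)
    (hνt : ν ⟨t, mem_centralizer_singleton_iff.2 rfl⟩ = 1)
    (hν : ∀ y (hy : y * t = t * y), y ∈ T → y * y = 1 → (∀ x ∈ T, x * y = y * x) →
      ν ⟨y, mem_centralizer_singleton_iff.2 hy⟩ = 1 → y = 1 ∨ y = t ∨ y = z ∨ y = t * z)
    (hns : ∀ S : Sylow 2 G, (S : Subgroup G) ≠ T) : ∃ x ∈ normalizer (T : Set G), x * t * x⁻¹ = t * z := by
  classical
  by_contra hcon
  push Not at hcon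
  have hf : Fact (Nat.Prime 2) := ⟨Nat.prime_two⟩
  have : Fintype (G ⧸ centralizer ({t} : Set G)) := Fintype.ofFinite _
  have ho : orderOf t = 2 := orderOf_eq_prime (by rw [pow_two]; exact F.tt) F.t1
  obtain ⟨f, hf, s, hs, htr⟩ := transfer_eq_prod_fixed (centralizer ({t} : Set G)) ν t (by
    intro g k hk2 hkd h
    have hk : k = 2 := by
      rw [ho] at hkd
      exact le_antisymm (Nat.le_of_dvd two_pos hkd) hk2
    have e : (⟨g⁻¹ * t ^ k * g, h⟩ : centralizer ({t} : Set G)) = 1 := by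
      apply Subtype.ext
      show g⁻¹ * t ^ k * g = 1
      rw [hk, pow_two, F.tt]; group
    rw [e, map_one]) T F.pT F.tc
  have h1 : MonoidHom.transfer ν t = 1 := TR.Frame.hom_eq_one hG _ _
  rw [h1] at htr
  have hco : ∀ g : G, (g : G ⧸ centralizer ({t} : Set G)) = (1 : G) ↔ g * t * g⁻¹ = t := by
    intro g
    rw [QuotientGroup.eq, mem_centralizer_singleton_iff]
    constructor
    · intro h
      have h2 : g⁻¹ * t = t * g⁻¹ := by rwa [mul_one] at h
      calc g * t * g⁻¹ = g * (t * g⁻¹) := by group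
        _ = g * (g⁻¹ * t) := by rw [h2]
        _ = t := by group
    · intro h
      rw [mul_one]
      calc g⁻¹ * t = g⁻¹ * (g * t * g⁻¹) := by rw [h]
        _ = t * g⁻¹ := by group
  have hfix : ∀ x g : G, x • (g : G ⧸ centralizer ({t} : Set G)) = g ↔
      g⁻¹ * x * g * t = t * (g⁻¹ * x * g) := by
    intro x g
    rw [Cfsg.Agent.OddHalf.Front.OrbitTransfer.smul_mk_eq, mem_centralizer_singleton_iff]
  -- the cosets fixed by `T`
  have hmem : ∀ c : G ⧸ centralizer ({t} : Set G), c ∈ s ↔ ∀ d ∈ T, d • c = c := by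
    intro c
    rw [hs]
    exact ⟨fun h => h.2, fun h => ⟨h t F.tT, h⟩⟩
  have h1s : ((1 : G) : G ⧸ centralizer ({t} : Set G)) ∈ s := by
    rw [hmem]
    intro d hd
    rw [hfix]
    have := F.tc d hd
    rw [inv_one, one_mul, mul_one]
    exact this
  have hf1 : f ((1 : G) : G ⧸ centralizer ({t} : Set G)) = 1 := by
    have e : (1 : G)⁻¹ * t * 1 = t := by group
    have h2 : (1 : G)⁻¹ * t * 1 ∈ centralizer ({t} : Set G) := by
      rw [e]; exact mem_centralizer_singleton_iff.2 rfl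
    rw [hf 1 h2]
    have e2 : (⟨(1 : G)⁻¹ * t * 1, h2⟩ : centralizer ({t} : Set G)) = ⟨t, mem_centralizer_singleton_iff.2 rfl⟩ :=
      Subtype.ext e
    rw [e2, hνt]
  have hfm : ∀ c ∈ s, c ≠ ((1 : G) : G ⧸ centralizer ({t} : Set G)) → f c = -1 := by
    intro c hc hc1
    obtain ⟨g, rfl⟩ := QuotientGroup.mk_surjective c
    have hT : ∀ x ∈ T, g⁻¹ * x * g * t = t * (g⁻¹ * x * g) := fun x hx => (hfix x g).1 ((hmem _).1 hc x hx)
    obtain ⟨c, hct, hn⟩ := exists_norm F.pT F.tc F.max hT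
    set n := g * c with hnd
    have hgn : (g : G ⧸ centralizer ({t} : Set G)) = (n : G ⧸ centralizer ({t} : Set G)) := by
      rw [QuotientGroup.eq]
      have e : g⁻¹ * n = c := by rw [hnd]; group
      rw [e]; exact mem_centralizer_singleton_iff.2 hct
    have hc1' : (n : G ⧸ centralizer ({t} : Set G)) ≠ ((1 : G) : G ⧸ centralizer ({t} : Set G)) := by
      rw [← hgn]; exact hc1
    show f (g : G ⧸ centralizer ({t} : Set G)) = -1
    rw [hgn]
    have hni : n⁻¹ ∈ normalizer (T : Set G) := inv_mem hn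
    set y : G := n⁻¹ * t * n with hy
    have hyT : y ∈ T := by
      have := (mem_normalizer_iff.1 hni t).1 F.tT
      rwa [inv_inv] at this
    have hyt : y * t = t * y := F.tc y hyT
    have hyc : ∀ x ∈ T, x * y = y * x := by
      intro x hx
      have h2 := (mem_normalizer_iff.1 hn x).1 hx
      have h3 := F.tc _ h2
      calc x * y = n⁻¹ * (n * x * n⁻¹ * t) * n := by rw [hy]; group
        _ = n⁻¹ * (t * (n * x * n⁻¹)) * n := by rw [h3]
        _ = y * x := by rw [hy]; group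
    have hyy : y * y = 1 := by
      calc y * y = n⁻¹ * (t * t) * n := by rw [hy]; group
        _ = 1 := by rw [F.tt]; group
    have h2 : n⁻¹ * t * n ∈ centralizer ({t} : Set G) := mem_centralizer_singleton_iff.2 hyt
    rw [hf n h2]
    rcases Int.units_eq_one_or (ν ⟨n⁻¹ * t * n, h2⟩) with h3 | h3
    swap
    · exact h3
    exfalso
    rcases hν y hyt hyT hyy hyc h3 with h4 | h4 | h4 | h4
    · apply F.t1
      calc t = n * y * n⁻¹ := by rw [hy]; group
        _ = 1 := by rw [h4]; group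
    · apply hc1'
      rw [hco]
      calc n * t * n⁻¹ = n * y * n⁻¹ := by rw [h4]
        _ = t := by rw [hy]; group
    · apply F.z_ne_t
      have h5 := zN n hn
      calc z = n * z * n⁻¹ := h5.symm
        _ = n * y * n⁻¹ := by rw [h4]
        _ = t := by rw [hy]; group
    · apply hcon n⁻¹ hni
      rw [inv_inv]; exact h4
  have hes : Even s.card := by
    have h2 := F.pT.card_modEq_card_fixedPoints (G ⧸ centralizer ({t} : Set G))
    have h3 : Nat.card (fixedPoints T (G ⧸ centralizer ({t} : Set G))) = s.card := by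
      have e : (fixedPoints T (G ⧸ centralizer ({t} : Set G))) = (s : Set (G ⧸ centralizer ({t} : Set G))) := by
        ext c
        rw [mem_fixedPoints, Finset.mem_coe, hmem]
        exact ⟨fun h d hd => h ⟨d, hd⟩, fun h d => h d d.2⟩
      rw [e, Nat.card_coe_set_eq, Set.ncard_coe_finset]
    rw [h3] at h2
    have h4 := even_index F.pT F.tc F.max hns
    have h5 : Nat.card (G ⧸ centralizer ({t} : Set G)) = (centralizer ({t} : Set G)).index := rfl
    rw [h5] at h2
    exact (Nat.even_iff.2 (by rw [← h2]; exact Nat.even_iff.1 h4))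
  rw [prod_neg s f _ h1s hf1 hfm hes] at htr
  exact absurd htr (by decide)

end Cfsg.Agent.OddHalf.D6.QThree.L43.Front

end

-- merged: Cfsg.Agent.OddHalf.D6.QThree.L43.FrontG
section

/-!
# ODD half, D6, `K = L₄(3)`, any outer part: the front end of the case `T < S`, `G`-level (helper76, bb #17200 (F))

`Out0 K t z`: `FrontB.Out` without `t ∈ C(z)'`. `main`: from `FB`, `FK` and "`T` is not a Sylow subgroup of `G`".
-/

set_option autoImplicit false

namespace Cfsg.Agent.OddHalf.D6.QThree.L43.Front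

open Subgroup MulAction Cfsg Cfsg.Agent.OddHalf.Front.FE Cfsg.Agent.OddHalf.Front Cfsg.Agent.OddHalf.D8.GlueE
open Cfsg.Agent.OddHalf.Front.Cyclic (mem_M KQ conjK conjK' conjQ inv_comm mul_comm' M_unique)
open Cfsg.Agent.OddHalf.D6.QThree.FrontB
open Cfsg.Agent.OddHalf.D6.QThree.L43.KFront

universe u

/-- `FrontB.Out` without `tH` -/
structure Out0 {G : Type*} [Group G] (K : Subgroup G) (t z : G) : Prop where
  tt : t * t = 1
  t1 : t ≠ 1
  Kt : ∀ x ∈ K, x * t = t * x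
  nK : ∀ g, g * t = t * g → g ∈ normalizer (K : Set G)
  /-- `C(K) ∩ C(t) = ⟨t⟩` -/
  cK : ∀ c, c * t = t * c → (∀ x ∈ K, x * c = c * x) → c = 1 ∨ c = t
  tK : t ∉ K
  zK : z ∈ K
  nc : ∀ g, g * t * g⁻¹ ≠ z
  sw : ∃ s, s * t * s⁻¹ = t * z ∧ s * z * s⁻¹ = z

theorem Out0.out {G : Type*} [Group G] {K : Subgroup G} {t z : G} (h : Out0 K t z)
    (tH : (⟨t, mem_centralizer_singleton_iff.2 (h.Kt z h.zK).symm⟩ : centralizer ({z} : Set G)) ∈
      _root_.commutator (centralizer ({z} : Set G))) : Out K t z where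
  tt := h.tt
  t1 := h.t1
  Kt := h.Kt
  nK := h.nK
  cK := h.cK
  tK := h.tK
  zK := h.zK
  nc := h.nc
  sw := h.sw
  tH := tH

variable {G : Type u} [Group G] {K : Subgroup G} {t q : G} {T : Subgroup G}

/-- a 2-subgroup of `C` is conjugate in `C` to a subgroup of the Sylow subgroup `S ≤ C` of `K` -/
theorem exists_conj_le {K : Type*} [Group K] [Finite K] (S : Sylow 2 K) {C P : Subgroup K} (hSC : (S : Subgroup K) ≤ C)
    (hP : IsPGroup 2 P) (hPC : P ≤ C) : ∃ g ∈ C, ∀ x ∈ P, g * x * g⁻¹ ∈ (S : Subgroup K) := by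
  have hf : Fact (Nat.Prime 2) := ⟨Nat.prime_two⟩
  obtain ⟨P', hP'⟩ := (hP.comap_of_injective C.subtype C.subtype_injective).exists_le_sylow
  have hS : IsPGroup 2 ↥((S : Subgroup K).subgroupOf C) := S.isPGroup'.comap_of_injective C.subtype C.subtype_injective
  obtain ⟨S', hS'⟩ := hS.exists_le_sylow
  have hS'S : (S' : Subgroup C).map C.subtype ≤ (S : Subgroup K) := by
    have h1 := S.is_maximal' (S'.isPGroup'.map C.subtype) (by
      intro x hx
      exact ⟨⟨x, hSC hx⟩, hS' (mem_subgroupOf.2 hx), rfl⟩)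
    rw [h1]
  obtain ⟨c, hc⟩ := exists_smul_eq C P' S'
  refine ⟨c, c.2, fun x hx => ?_⟩
  have h2 : (⟨x, hPC hx⟩ : C) ∈ (P' : Subgroup C) := hP' (mem_subgroupOf.2 hx)
  have h3 : c * ⟨x, hPC hx⟩ * c⁻¹ ∈ (S' : Subgroup C) := by
    rw [← hc]
    exact Subgroup.smul_mem_pointwise_smul _ (MulAut.conj c) _ h2
  exact hS'S ⟨_, h3, rfl⟩

/-- commutators of elements of `C(t)` lie in `Q K` -/
theorem comm_mem {z : K} {R : Subgroup K} (st : Start K t q) (h : FK z R) {x y : G} (hx : x * t = t * x)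
    (hy : y * t = t * y) : x * y * x⁻¹ * y⁻¹ ∈ zpowers q ⊔ K := by
  have hxi : x⁻¹ * t = t * x⁻¹ := inv_comm hx
  have hyi : y⁻¹ * t = t * y⁻¹ := inv_comm hy
  have h1 : x * y * x⁻¹ * y⁻¹ * t = t * (x * y * x⁻¹ * y⁻¹) :=
    mul_comm' (mul_comm' (mul_comm' hx hy) hxi) hyi
  apply OfSheet.mem_of_inn st h1
  have e : K.normalizerMonoidHom ⟨x * y * x⁻¹ * y⁻¹, st.nK _ h1⟩ =
      (K.normalizerMonoidHom ⟨x, st.nK x hx⟩) * (K.normalizerMonoidHom ⟨y, st.nK y hy⟩) *
        (K.normalizerMonoidHom ⟨x, st.nK x hx⟩)⁻¹ * (K.normalizerMonoidHom ⟨y, st.nK y hy⟩)⁻¹ := by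
    rw [← map_inv, ← map_inv, ← map_mul, ← map_mul, ← map_mul]
    rfl
  rw [e]
  exact h.inn _ _

/-- commutators of elements of `Q K` lie in `K` -/
theorem comm_mem_K (st : Start K t q) {x y : G} (hx : x ∈ zpowers q ⊔ K) (hy : y ∈ zpowers q ⊔ K) :
    x * y * x⁻¹ * y⁻¹ ∈ K := by
  obtain ⟨a, ha, k, hk, rfl⟩ := (mem_M st.toStart0).1 hx
  obtain ⟨b, hb, l, hl, rfl⟩ := (mem_M st.toStart0).1 hy
  have c1 : Commute a k := (st.QK a ha k hk).symm
  have c2 : Commute a l := (st.QK a ha l hl).symm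
  have c3 : Commute b k := (st.QK b hb k hk).symm
  have c4 : Commute b l := (st.QK b hb l hl).symm
  have c5 : Commute a b := by
    obtain ⟨m, rfl⟩ := mem_zpowers_iff.1 ha
    obtain ⟨n, rfl⟩ := mem_zpowers_iff.1 hb
    exact (Commute.refl q).zpow_zpow m n
  have e : a * k * (b * l) * (a * k)⁻¹ * (b * l)⁻¹ = k * l * k⁻¹ * l⁻¹ := by
    rw [mul_inv_rev, mul_inv_rev]
    calc a * k * (b * l) * (k⁻¹ * a⁻¹) * (l⁻¹ * b⁻¹) = a * (k * b) * l * k⁻¹ * (a⁻¹ * l⁻¹) * b⁻¹ := by group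
      _ = a * (b * k) * l * k⁻¹ * (l⁻¹ * a⁻¹) * b⁻¹ := by rw [c3.symm.eq, c2.inv_inv.eq]
      _ = a * b * (k * l * k⁻¹ * l⁻¹) * (a⁻¹ * b⁻¹) := by group
      _ = (k * l * k⁻¹ * l⁻¹) * (a * b) * (a⁻¹ * b⁻¹) := by
          have c6 : Commute (a * b) (k * l * k⁻¹ * l⁻¹) := by
            have c7 : Commute (a * b) k := c1.mul_left c3
            have c8 : Commute (a * b) l := c2.mul_left c4
            exact ((c7.mul_right c8).mul_right c7.inv_right).mul_right c8.inv_right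
          rw [c6.eq]
      _ = (k * l * k⁻¹ * l⁻¹) * (a * b) * (b⁻¹ * a⁻¹) := by rw [c5.inv_inv.eq]
      _ = k * l * k⁻¹ * l⁻¹ := by group
  rw [e]
  exact K.mul_mem (K.mul_mem (K.mul_mem hk hl) (K.inv_mem hk)) (K.inv_mem hl)

/-- **(F1)**: `N(T)` fixes `z` -/
theorem zN [Finite G] {z : K} {R : Subgroup K} (F : FB K t q (z : G) T) (h : FK z R) (S : Sylow 2 K)
    (hSz : ∀ x ∈ S, x * z = z * x) (hTS : ∀ x : K, (x : G) ∈ T ↔ x ∈ S) :
    ∀ n ∈ normalizer (T : Set G), n * (z : G) * n⁻¹ = z := by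
  intro n hn
  obtain ⟨P, hP, hPz, a, ha, b, hb, c, hc, d, hd, hz⟩ := h.dc
  have hPC : P ≤ centralizer ({z} : Set K) := fun x hx => mem_centralizer_singleton_iff.2 (hPz x hx)
  have hSC : (S : Subgroup K) ≤ centralizer ({z} : Set K) := fun x hx => mem_centralizer_singleton_iff.2 (hSz x hx)
  obtain ⟨g, hg, hgP⟩ := exists_conj_le S hSC hP hPC
  have hgz : g * z * g⁻¹ = z := by
    rw [mem_centralizer_singleton_iff.1 hg, mul_inv_cancel_right]
  -- the four elements in `T`, conjugated by `n`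
  have hT : ∀ x ∈ P, n * ((g * x * g⁻¹ : K) : G) * n⁻¹ ∈ T := fun x hx =>
    (mem_normalizer_iff.1 hn _).1 ((hTS _).2 (hgP x hx))
  set A := n * ((g * a * g⁻¹ : K) : G) * n⁻¹ with hA
  set B := n * ((g * b * g⁻¹ : K) : G) * n⁻¹ with hB
  set C := n * ((g * c * g⁻¹ : K) : G) * n⁻¹ with hC
  set D := n * ((g * d * g⁻¹ : K) : G) * n⁻¹ with hD
  have e : n * (z : G) * n⁻¹ = (A * B * A⁻¹ * B⁻¹) * (C * D * C⁻¹ * D⁻¹) * (A * B * A⁻¹ * B⁻¹)⁻¹ *
      (C * D * C⁻¹ * D⁻¹)⁻¹ := by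
    have h1 : g * ((a * b * a⁻¹ * b⁻¹) * (c * d * c⁻¹ * d⁻¹) * (a * b * a⁻¹ * b⁻¹)⁻¹ * (c * d * c⁻¹ * d⁻¹)⁻¹) * g⁻¹ = z := by
      rw [hz, hgz]
    have h2 := congrArg (fun x : K => n * (x : G) * n⁻¹) h1
    have h3 : n * ((g * ((a * b * a⁻¹ * b⁻¹) * (c * d * c⁻¹ * d⁻¹) * (a * b * a⁻¹ * b⁻¹)⁻¹ *
        (c * d * c⁻¹ * d⁻¹)⁻¹) * g⁻¹ : K) : G) * n⁻¹ = n * (z : G) * n⁻¹ := h2
    rw [← h3, hA, hB, hC, hD]
    push_cast
    group
  have hAB := comm_mem F.toStart h (F.tc A (hT a ha)) (F.tc B (hT b hb))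
  have hCD := comm_mem F.toStart h (F.tc C (hT c hc)) (F.tc D (hT d hd))
  have hzK : n * (z : G) * n⁻¹ ∈ K := by
    rw [e]; exact comm_mem_K F.toStart hAB hCD
  have hzT : n * (z : G) * n⁻¹ ∈ T := (mem_normalizer_iff.1 hn _).1 F.zT
  have hni : n⁻¹ ∈ normalizer (T : Set G) := inv_mem hn
  have hcen : ∀ x ∈ T, x * (n * (z : G) * n⁻¹) = n * (z : G) * n⁻¹ * x := by
    intro x hx
    have h1 := (mem_normalizer_iff.1 hni x).1 hx
    rw [inv_inv] at h1
    have h2 := F.zc _ h1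
    calc x * (n * (z : G) * n⁻¹) = n * (n⁻¹ * x * n * z) * n⁻¹ := by group
      _ = n * (z * (n⁻¹ * x * n)) * n⁻¹ := by rw [h2]
      _ = n * (z : G) * n⁻¹ * x := by group
  rcases F.P1 _ hzT hzK (fun x hx _ => hcen x hx) with h1 | h1
  · exfalso
    apply F.z1
    calc (z : G) = n⁻¹ * (n * (z : G) * n⁻¹) * n := by group
      _ = 1 := by rw [h1]; group
  · exact h1

/-- the action of `C(t)` on `K` -/
noncomputable def ac (st : Start K t q) : centralizer ({t} : Set G) →* MulAut K :=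
  K.normalizerMonoidHom.comp (inclusion (fun g hg => st.nK g (mem_centralizer_singleton_iff.1 hg)))

theorem ac_apply (st : Start K t q) {y : G} (hy : y * t = t * y) (k : K) :
    ((ac st ⟨y, mem_centralizer_singleton_iff.2 hy⟩ k : K) : G) = y * k * y⁻¹ := rfl

/-- an element of `T` which centralises `T ∩ K` and acts as an element of `⟨z⟩` -/
theorem mem_of_act [Finite G] {z : K} {y : G} (F : FB K t q (z : G) T) (hy : y ∈ T) (hyy : y * y = 1)
    (h : ac F.toStart ⟨y, mem_centralizer_singleton_iff.2 (F.tc y hy)⟩ = 1 ∨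
      ac F.toStart ⟨y, mem_centralizer_singleton_iff.2 (F.tc y hy)⟩ = MulAut.conj z) :
    y = 1 ∨ y = t ∨ y = z ∨ y = t * z := by
  have hyt := F.tc y hy
  have key : ∀ w : G, w * t = t * w → w * w = 1 → (∀ k ∈ K, w * k = k * w) → w = 1 ∨ w = t := by
    intro w hwt hww hwK
    have h1 := F.cK w hwt (fun x hx => (hwK x hx).symm)
    by_cases h : w = 1
    · exact Or.inl h
    · exact Or.inr (F.uniq h1 hww h)
  rcases h with h | h
  · have h1 : ∀ k ∈ K, y * k = k * y := by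
      intro k hk
      have h2 := congrArg (fun f : MulAut K => ((f ⟨k, hk⟩ : K) : G)) h
      have h3 : y * k * y⁻¹ = k := h2
      rwa [mul_inv_eq_iff_eq_mul] at h3
    rcases key y hyt hyy h1 with e | e
    · exact Or.inl e
    · exact Or.inr (Or.inl e)
  · have hyz : y * z = z * y := F.zc y hy
    have hww : (z : G) * y * (z * y) = 1 := by
      calc (z : G) * y * (z * y) = z * (y * z) * y := by group
        _ = z * (z * y) * y := by rw [hyz]
        _ = (z * z) * (y * y) := by group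
        _ = 1 := by rw [F.zz, hyy, one_mul]
    have hzt := F.Kt z F.zK
    have hzi : (z : G)⁻¹ = z := inv_eq_of_mul_eq_one_right F.zz
    have h1 : ∀ k ∈ K, z * y * k = k * (z * y) := by
      intro k hk
      have h2 := congrArg (fun f : MulAut K => ((f ⟨k, hk⟩ : K) : G)) h
      have h3 : y * k * y⁻¹ = z * k * (z : G)⁻¹ := h2
      rw [mul_inv_eq_iff_eq_mul] at h3
      calc z * y * k = z * (y * k) := by group
        _ = z * (z * k * (z : G)⁻¹ * y) := by rw [h3]
        _ = (z * z) * (k * ((z : G)⁻¹ * y)) := by group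
        _ = k * (z * y) := by rw [F.zz, one_mul, hzi]
    have hyy' : y = z * (z * y) := by rw [← mul_assoc, F.zz, one_mul]
    rcases key (z * y) (mul_comm' hzt hyt) hww h1 with e | e
    · rw [e, mul_one] at hyy'
      exact Or.inr (Or.inr (Or.inl hyy'))
    · rw [e, hzt] at hyy'
      exact Or.inr (Or.inr (Or.inr hyy'))

/-- the output of the front end -/
structure Res (K : Subgroup G) (t q : G) (z : K) (R : Subgroup K) (T : Subgroup G) : Prop where
  fb : FB K t q (z : G) T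
  out : Out0 K t (z : G)
  /-- an element of `N(T)` maps `t` to `tz` -/
  xN : ∃ x ∈ normalizer (T : Set G), x * t * x⁻¹ = t * z ∧ x * (z : G) * x⁻¹ = z
  /-- `R ≤ T` -/
  RT : ∀ r ∈ R, (r : G) ∈ T
  /-- a conjugate of `z` which centralises `T` is `z` or a reflection -/
  hu : ∀ g : G, (∀ x ∈ T, x * (g * z * g⁻¹) = g * z * g⁻¹ * x) → g * z * g⁻¹ = z ∨
    ∃ hy : (g * z * g⁻¹) * t = t * (g * z * g⁻¹),
      (¬ (ac fb.toStart ⟨g * z * g⁻¹, mem_centralizer_singleton_iff.2 hy⟩ = 1)) ∧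
      ¬ ac fb.toStart ⟨g * z * g⁻¹, mem_centralizer_singleton_iff.2 hy⟩ = MulAut.conj z

/-- **the front end, `T < S`** -/
theorem main [Finite G] {z : K} {R : Subgroup K} (F : FB K t q (z : G) T) (h : FK z R) (S : Sylow 2 K) (hRS : R ≤ S)
    (hSz : ∀ x ∈ S, x * z = z * x) (hTS : ∀ x : K, (x : G) ∈ T ↔ x ∈ S) (hG : ∀ H : Subgroup G, H.index ≠ 2)
    (hns : ∀ S : Sylow 2 G, (S : Subgroup G) ≠ T) : Res K t q z R T := by
  have hzN := zN F h S hSz hTS
  obtain ⟨γ, hγ1, hγ⟩ := h.sg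
  have hfix : ∀ y (hy : y * t = t * y), (∀ x ∈ T, x * y = y * x) → ∀ r ∈ R,
      ac F.toStart ⟨y, mem_centralizer_singleton_iff.2 hy⟩ r = r := by
    intro y hy hc r hr
    apply Subtype.ext
    rw [ac_apply F.toStart hy, ← hc r ((hTS r).2 (hRS hr)), mul_inv_cancel_right]
  have hν : ∀ y (hy : y * t = t * y), y ∈ T → y * y = 1 → (∀ x ∈ T, x * y = y * x) →
      (γ.comp (ac F.toStart)) ⟨y, mem_centralizer_singleton_iff.2 hy⟩ = 1 → y = 1 ∨ y = t ∨ y = z ∨ y = t * z := by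
    intro y hy hyT hyy hc h1
    exact mem_of_act F hyT hyy (hγ _ (hfix y hy hc) h1)
  have hνt : (γ.comp (ac F.toStart)) ⟨t, mem_centralizer_singleton_iff.2 rfl⟩ = 1 := by
    have h1 : ac F.toStart ⟨t, mem_centralizer_singleton_iff.2 rfl⟩ = 1 := by
      ext k
      rw [ac_apply F.toStart rfl, ← F.Kt k k.2, mul_inv_cancel_right]
      rfl
    show γ (ac F.toStart _) = 1
    rw [h1, map_one]
  obtain ⟨x, hxN, hxt⟩ := exists_swap F hG hzN (γ.comp (ac F.toStart)) hνt hν hns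
  have hxz := hzN x hxN
  have hnc : ∀ g, g * t * g⁻¹ ≠ (z : G) := by
    intro g hg
    obtain ⟨c, hct, hn⟩ := exists_norm F.pT F.tc F.max (g := g) (by
      intro y hy
      have h1 := F.zc y hy
      rw [← hg] at h1
      calc g⁻¹ * y * g * t = g⁻¹ * (y * (g * t * g⁻¹)) * g := by group
        _ = g⁻¹ * (g * t * g⁻¹ * y) * g := by rw [h1]
        _ = t * (g⁻¹ * y * g) := by group)
    have h1 := hzN _ hn
    have h2 : g * c * t * (g * c)⁻¹ = z := by
      calc g * c * t * (g * c)⁻¹ = g * (c * t) * c⁻¹ * g⁻¹ := by group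
        _ = g * (t * c) * c⁻¹ * g⁻¹ := by rw [hct]
        _ = g * t * g⁻¹ := by group
        _ = z := hg
    apply F.z_ne_t
    exact mul_left_cancel (mul_right_cancel (h1.trans h2.symm))
  have hnc2 : ∀ g, g * (t * z) * g⁻¹ ≠ (z : G) := by
    intro g hg
    apply hnc (g * x)
    calc g * x * t * (g * x)⁻¹ = g * (x * t * x⁻¹) * g⁻¹ := by group
      _ = z := by rw [hxt]; exact hg
  refine
    { fb := F
      out :=
        { tt := F.tt
          t1 := F.t1
          Kt := F.Kt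
          nK := F.nK
          cK := fun c hct hcK => F.Q_two hxN hxt c (F.cK c hct hcK)
          tK := F.tK
          zK := F.zK
          nc := hnc
          sw := ⟨x, hxt, hxz⟩ }
      xN := ⟨x, hxN, hxt, hxz⟩
      RT := fun r hr => (hTS r).2 (hRS hr)
      hu := ?_ }
  intro g hg
  set y := g * (z : G) * g⁻¹ with hy
  have hyt : y * t = t * y := (hg t F.tT).symm
  have hyy : y * y = 1 := by
    calc y * y = g * (z * z) * g⁻¹ := by rw [hy]; group
      _ = 1 := by rw [F.zz]; group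
  have hyT : y ∈ T := by
    have h1 : IsPGroup 2 ↥(zpowers y ⊔ T : Subgroup G) := by
      apply (pgroup_zp hyy).to_sup_of_normal_right' F.pT
      rw [zpowers_le, mem_normalizer_iff]
      intro x
      have hyi : y⁻¹ = y := inv_eq_of_mul_eq_one_right hyy
      constructor
      · intro hx
        rw [← hg x hx, mul_inv_cancel_right]; exact hx
      · intro hx
        have h2 := hg _ hx
        have h3 : x = y⁻¹ * (y * x * y⁻¹) * y := by group
        rw [h3, mul_assoc, h2, ← mul_assoc, inv_mul_cancel, one_mul]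
        exact hx
    have h2 := F.max _ h1 le_sup_right (by
      have h3 : zpowers y ⊔ T ≤ centralizer ({t} : Set G) := by
        rw [sup_le_iff, zpowers_le]
        exact ⟨mem_centralizer_singleton_iff.2 hyt, fun x hx => mem_centralizer_singleton_iff.2 (F.tc x hx)⟩
      exact fun x hx => mem_centralizer_singleton_iff.1 (h3 hx))
    exact h2 ((le_sup_left : zpowers y ≤ _) (mem_zpowers y))
  by_cases hyz : y = z
  · exact Or.inl hyz
  right
  have hno : ¬ (y = 1 ∨ y = t ∨ y = z ∨ y = t * z) := by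
    rintro (h1 | h1 | h1 | h1)
    · apply F.z1
      calc (z : G) = g⁻¹ * y * g := by rw [hy]; group
        _ = 1 := by rw [h1]; group
    · apply hnc g⁻¹
      rw [← h1, hy]; group
    · exact hyz h1
    · apply hnc2 g⁻¹
      rw [← h1, hy]; group
  refine ⟨hyt, fun h1 => hno ?_, fun h1 => hno ?_⟩
  · exact mem_of_act F hyT hyy (Or.inl h1)
  · exact mem_of_act F hyT hyy (Or.inr h1)

end Cfsg.Agent.OddHalf.D6.QThree.L43.Front

end

-- merged: Cfsg.Agent.OddHalf.D6.QThree.L43.RZero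
section

/-!
# ODD half, D6, `K = L₄(3)`, `T < S`: (R0), a reflection is not conjugate to `z` (helper948; text: helper76, bb #17200)

Every component of `C(z)` contains `z` (`NIB.Pre.zM`), a component of `C(b)` over `L_b ≅ PSp₄(3)` does not contain `b`.
`main`: (R0). `out`: the output of the front end.
-/

set_option autoImplicit false

namespace Cfsg.Agent.OddHalf.D6.QThree.L43.RZero

open Subgroup Cfsg Cfsg.Agent.OddHalf Cfsg.Agent.OddHalf.Iface Cfsg.Agent.OddHalf.D3
open Cfsg.Agent.OddHalf.D6.QThree.FrontB (BA Z2 FrontK Out)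
open Cfsg.Agent.OddHalf.D6.QThree.FrontLoc (Loc Loc0 OutC Bt T4 up az bz)
open Cfsg.Agent.OddHalf.D6.QThree.RefData (KH DD Rf)

universe u

variable {G : Type u} [Group G]

/-- some component of `C(b)` does not contain `b` -/
theorem exists_comp {t z b : G} {D R L : Subgroup G} {F : Type} [Field F] [Fintype F]
    (h : RefOf.Data t z b D R L F) (C : Ctx G) (hS : Pump.SpOrd.{u}) {K : Subgroup G} (S : Std G K)
    (hK : Nat.card K < 6531840) (hN : ∀ K : Subgroup G, CompOf b K → ¬ NI3.HasY ↥K) :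
    ∃ M : Subgroup G, Comp b M ∧ b ∉ M := by
  rcases RefSw.tri' h C hS S hK hN with h1 | ⟨M, h1, -, h2⟩ | ⟨M, h1, h2, A⟩
  · refine ⟨L, h1, fun hb => h.b1 (h.eq_one_L hb fun l hl => (h.Lb l hl).symm)⟩
  · refine ⟨M, h1, fun hb => h.b1 ?_⟩
    have h3 : (⟨b, hb⟩ : M) ∈ center M := by
      rw [mem_center_iff]
      intro m
      exact Subtype.ext (mem_centralizer_singleton_iff.1 (h1.le m.2))
    rw [h2, mem_bot] at h3
    exact congrArg Subtype.val h3
  · refine ⟨M, h1, fun hb => h.b1 (A.dis b hb ?_)⟩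
    rw [← h.bt, mul_inv_cancel_right]
    exact hb

/-- `z` is in every component of `C(z)`, `c` is not in some component of `C(c)`: not conjugate -/
theorem ne_conj {z c : G} (hzM : ∀ M : Subgroup ↥(centralizer ({z} : Set G)), IsComponent M →
      (⟨z, mem_centralizer_singleton_iff.2 rfl⟩ : ↥(centralizer ({z} : Set G))) ∈ M)
    (h : ∃ M : Subgroup G, Comp c M ∧ c ∉ M) (g : G) : g * z * g⁻¹ ≠ c := by
  intro e
  obtain ⟨M, hM, hc⟩ := h
  have h1 := hM.conj g⁻¹
  have e2 : g⁻¹ * c * g⁻¹⁻¹ = z := by rw [← e]; group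
  rw [e2] at h1
  have h2 : z ∈ cj g⁻¹ M := hzM _ h1.comp
  rw [mem_cj] at h2
  apply hc
  have e3 : g⁻¹⁻¹ * z * g⁻¹ = c := by rw [← e]; group
  rwa [e3] at h2

variable {K : Subgroup G} {t : G} {z : K} {R : Subgroup K} {i j k l a b : K}

/-- **(R0)** -/
theorem main (C : Ctx G) (hSp : Pump.SpOrd.{u}) (S : Std G K) (hK : Nat.card K < 6531840)
    (hN : ∀ b : G, orderOf b = 2 → ∀ L : Subgroup G, CompOf b L → ¬ NI3.HasY ↥L)
    (O : OutC K t (z : G)) (f : FrontK z R i j k l a b)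
    (L : Loc0 t (z : G) (R.map K.subtype) (i : G) j k l a b) (rf : Rf z R) {c : G} (ct : c * t = t * c)
    (cR : ∀ r ∈ R, c * r = r * c) (hc1 : ¬ ∀ x ∈ K, c * x = x * c) (hcz : ¬ ∀ x ∈ K, (c * z) * x = x * (c * z))
    (g : G) : g * z * g⁻¹ ≠ c := by
  intro e
  have hfin := C.fin
  have hz : orderOf (z : G) = 2 := orderOf_eq_prime (by rw [pow_two]; exact L.fr.zz) L.fr.z1
  have hO : pPrimeCore 2 ↥(centralizer ({(z : G)} : Set G)) = ⊥ := Soft.core_eq_bot (C.bal _ hz)
  have cc : c * c = 1 := by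
    rw [← e]
    calc g * z * g⁻¹ * (g * z * g⁻¹) = g * (z * z) * g⁻¹ := by group
      _ = 1 := by rw [L.fr.zz]; group
  have kh : KH z R i j k l a b :=
    KH.of_K f (FrontLoc.Loc0.odd3 (Subtype.ext L.a3)) (FrontLoc.Loc0.odd3 (Subtype.ext L.b3))
  obtain ⟨E, F, _, _, hD, -⟩ := RefData.data O.tt O.t1 O.Kt O.nK kh rf cc ct cR hc1 hcz
  have P := L.pre hO
  exact ne_conj (fun M hM => P.zM hM) (exists_comp hD C hSp S hK (hN c hD.b_ord)) g e

/-- **the output of the front end**, `T < S` -/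
theorem out {q : G} {T : Subgroup G} (C : Ctx G) (hSp : Pump.SpOrd.{u}) (S : Std G K) (hK : Nat.card K < 6531840)
    (hN : ∀ b : G, orderOf b = 2 → ∀ L : Subgroup G, CompOf b L → ¬ NI3.HasY ↥L) (r : Front.Res K t q z R T)
    (f : FrontK z R i j k l a b) (rf : Rf z R) : Out K t (z : G) := by
  have hfin := C.fin
  have O : OutC K t (z : G) :=
    ⟨r.out.tt, r.out.t1, r.out.Kt, r.out.nK, r.out.cK, r.out.tK, r.out.zK, r.out.sw⟩
  obtain ⟨a', b', f', L⟩ := FrontLoc.exists_loc0 O f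
  obtain ⟨x, hxN, hxt, hxz⟩ := r.xN
  refine r.fb.out_of (Front.FE.commutator_eq_top C) hxN hxt hxz r.out.nc fun g hg => ?_
  rcases r.hu g hg with h | ⟨hy, h1, h2⟩
  · exact h
  exfalso
  set c : G := g * z * g⁻¹ with hc
  have hzz : (z : G) * z = 1 := L.fr.zz
  have hzi : (z : G)⁻¹ = z := inv_eq_of_mul_eq_one_right hzz
  refine main C hSp S hK hN O f' L rf hy (fun r' hr' => (hg _ (r.RT r' hr')).symm) (fun h => h1 ?_) (fun h => h2 ?_)
    g rfl
  · ext y
    rw [Front.ac_apply r.fb.toStart hy, h y y.2, mul_inv_cancel_right]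
    rfl
  · ext y
    rw [Front.ac_apply r.fb.toStart hy]
    show c * y * c⁻¹ = (z : G) * y * (z : G)⁻¹
    have h3 := h (z * y * z) (K.mul_mem (K.mul_mem z.2 y.2) z.2)
    have h4 : c * (z : G) * ((z : G) * y * z) = c * (y : G) * z := by
      calc c * (z : G) * ((z : G) * y * z) = c * ((z : G) * z) * y * z := by group
        _ = c * (y : G) * z := by rw [hzz, mul_one]
    have hcz : c * (z : G) = z * c := (hg z (r.RT z f.zR)).symm
    have h5 : (z : G) * y * z * (c * z) = (z : G) * y * c := by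
      calc (z : G) * y * z * (c * z) = (z : G) * y * (z * (z * c)) := by rw [hcz]; group
        _ = (z : G) * y * ((z * z) * c) := by group
        _ = (z : G) * y * c := by rw [hzz, one_mul]
    rw [h4, h5] at h3
    rw [mul_inv_eq_iff_eq_mul]
    calc c * (y : G) = c * (y : G) * z * (z : G)⁻¹ := by group
      _ = (z : G) * y * c * (z : G)⁻¹ := by rw [h3]
      _ = (z : G) * y * (c * z) := by rw [hzi]; group
      _ = (z : G) * y * (z : G)⁻¹ * c := by rw [hcz, hzi]; group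

end Cfsg.Agent.OddHalf.D6.QThree.L43.RZero

end
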