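import Cfsg.Agent.OddHalf.D6.QThree.L43.RefSw
import Cfsg.Agent.OddHalf.D5.SixAut.SymSpl
import Cfsg.Agent.SignalizersComponents.PConstrained
import Cfsg.Agent.SignalizersComponents.ComponentExists
import Cfsg.Agent.OddHalf.D5.SixAut.SymList
import Cfsg.Agent.OddHalf.Small.RowsAll
import Cfsg.Agent.OddHalf.Small.J3
import Cfsg.Agent.OddHalf.Small.M24Char
import Cfsg.Agent.KFacts.RgdLieCharP
import Cfsg.Agent.Co2Type.CardCo2
import Cfsg.Agent.MonsterX.ThOneClass
import Cfsg.Agent.S1758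
import Cfsg.Agent.S1759
import Cfsg.Agent.S1762
import Cfsg.Agent.S1763
import Cfsg.Agent.OddHalf.D6.QThree.FrontInstB
import Cfsg.Agent.OddHalf.D6.QThree.FrontLocOf
import Cfsg.Agent.OddHalf.D6.QThree.L43.AlphaM
import Cfsg.Agent.OddHalf.D6.QThree.L43.EndCard
import Cfsg.Agent.OddHalf.D6.QThree.L43.RfL

-- merged: Cfsg.Agent.OddHalf.D6.QThree.L43.ReflAll
section

/-!
# ODD half, D6, `K = L₄(3)`: a reflection does not centralise a component of `C_G(z)` (helper577; text: helper76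
#17200 (R'))

`refl_all`: `RefOf.Data t z b D R L F`, `D` solvable; `M` a component of `C(z)`, `z ∈ M`: `b` does not centralise `M`.
`refl_X`: the same in `X = C_G(z)`, from the facts on `K`.
-/

set_option autoImplicit false

namespace Cfsg.Agent.OddHalf.D6.QThree.L43.ReflAll

open Subgroup Cfsg Cfsg.Agent.OddHalf.Iface Cfsg.Agent.OddHalf.D3
open Cfsg.Agent.OddHalf.D6.QThree.Pump (SpOrd)
open Cfsg.Agent.OddHalf.D6.QThree.Diag (DiagAt)
open Cfsg.Agent.OddHalf.D6.QThree.NISide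
open Cfsg.Agent.OddHalf.D6.QThree.NIB
open Cfsg.Agent.OddHalf.D6.QThree.RefOf (Data)
open Cfsg.Agent.OddHalf.D6.QThree.RefData (KH Rf DD)

universe u

/-- a perfect finite group is generated by its elements of odd order -/
theorem closure_odd {Y : Type*} [Group Y] [Finite Y] (hperf : commutator Y = ⊤) :
    closure {y : Y | Odd (orderOf y)} = ⊤ := by
  have hp : Fact (Nat.Prime 2) := ⟨Nat.prime_two⟩
  set N : Subgroup Y := closure {y : Y | Odd (orderOf y)} with hN
  have hn : N.Normal := by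
    refine ⟨fun a ha g => ?_⟩
    have h1 : N.map (MulAut.conj g).toMonoidHom ≤ N := by
      rw [hN, MonoidHom.map_closure, closure_le]
      rintro _ ⟨y, hy, rfl⟩
      apply Subgroup.subset_closure
      show Odd (orderOf ((MulAut.conj g).toMonoidHom y))
      rw [orderOf_injective _ (MulAut.conj g).injective]
      exact hy
    exact h1 ⟨a, ha, rfl⟩
  have h2 : IsPGroup 2 (Y ⧸ N) := by
    intro x
    obtain ⟨y, rfl⟩ := QuotientGroup.mk_surjective x
    obtain ⟨n, m, hm, hnm⟩ := Nat.exists_eq_two_pow_mul_odd (n := orderOf y) (orderOf_pos y).ne'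
    refine ⟨n, ?_⟩
    rw [← QuotientGroup.mk_pow, QuotientGroup.eq_one_iff]
    apply Subgroup.subset_closure
    show Odd (orderOf (y ^ 2 ^ n))
    refine hm.of_dvd_nat (orderOf_dvd_of_pow_eq_one ?_)
    rw [← pow_mul, ← hnm, pow_orderOf_eq_one]
  have h3 : commutator (Y ⧸ N) = ⊤ := by
    have h1 : (commutator Y).map (QuotientGroup.mk' N) = commutator (Y ⧸ N) := by
      rw [_root_.commutator_def, _root_.commutator_def, Subgroup.map_commutator,
        ← MonoidHom.range_eq_map,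
        MonoidHom.range_eq_top.mpr (QuotientGroup.mk'_surjective N)]
    rw [← h1, hperf, ← MonoidHom.range_eq_map,
      MonoidHom.range_eq_top.mpr (QuotientGroup.mk'_surjective N)]
  by_contra hne
  have hnt : Nontrivial (Y ⧸ N) := QuotientGroup.nontrivial_iff.2 hne
  have := h2.isNilpotent
  have h4 : commutator (Y ⧸ N) < ⊤ := by
    exact Group.IsSolvable.commutator_lt_top_of_nontrivial (Y ⧸ N)
  exact h4.ne h3

variable {G : Type u} [Group G] {t z b : G} {D R L : Subgroup G} {F : Type} [Field F] [Fintype F]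

/-- an element of a component normalises the components -/
theorem cj_of_mem [Finite G] {P N : Subgroup G} (hP : Comp b P) (hN : Comp b N) {x : G} (hx : x ∈ P) : cj x N = N := by
  by_cases e : N = P
  · rw [e]
    apply le_antisymm
    · rintro _ ⟨y, hy, rfl⟩
      exact P.mul_mem (P.mul_mem hx hy) (P.inv_mem hx)
    · intro y hy
      rw [mem_cj]
      exact P.mul_mem (P.mul_mem (P.inv_mem hx) hy) hx
  · have hc : ∀ y ∈ N, y * x = x * y := fun y hy => comm_elt (hN.comm hP e) hy hx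
    apply le_antisymm
    · rintro _ ⟨y, hy, rfl⟩
      show x * y * x⁻¹ ∈ N
      rw [← hc y hy, mul_inv_cancel_right]
      exact hy
    · intro y hy
      rw [mem_cj, mul_assoc, hc y hy, inv_mul_cancel_left]
      exact hy

/-- **(R')** -/
theorem refl_all (h : Data t z b D R L F) (C : Ctx G) (hS : SpOrd.{u}) {K : Subgroup G} (S : Std G K)
    (hK : Nat.card K < 6531840) (hNY : ∀ K : Subgroup G, CompOf b K → ¬ NI3.HasY ↥K) (hsol : Group.IsSolvable D)
    {M : Subgroup G} (hMz : Comp z M) (hz : z ∈ M) : ¬ ∀ m ∈ M, b * m = m * b := by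
  intro hMb
  have := C.fin
  have hzb : b * z = z * b := (h.Lb z h.zL).symm
  have hz2 : orderOf z = 2 := orderOf_eq_prime (by rw [pow_two]; exact h.zz) h.z1
  have hMb' : M ≤ centralizer ({b} : Set G) := fun m hm => mem_cs.2 (hMb m hm).symm
  have heven : 2 ∣ Nat.card M := by
    have h1 : orderOf (⟨z, hz⟩ : M) ∣ Nat.card M := orderOf_dvd_natCard _
    rwa [Subgroup.orderOf_mk, hz2] at h1
  have hsub : (M.subgroupOf (centralizer ({b} : Set G) ⊓ centralizer ({z} : Set G))).IsSubnormal :=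
    Diag.sn_mono inf_le_right hMz.comp.1
  -- the position of `z` in `E(C(b))`
  have hpos : (∃ P : Subgroup G, Comp b P ∧ L ≤ P) ∨
      ∃ P : Subgroup G, Comp b P ∧ cj t P ≠ P ∧ DiagAt t z b D P L := by
    rcases RefSw.tri' h C hS S hK hNY with h1 | ⟨P, h1, h2, -⟩ | h1
    · exact Or.inl ⟨L, h1, le_rfl⟩
    · exact Or.inl ⟨P, h1, h2⟩
    · exact Or.inr h1
  -- `z` normalises the components of `C(b)`
  have hnorm : ∀ N : Subgroup G, Comp b N → cj z N = N := by
    intro N hN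
    rcases hpos with ⟨P, hP, hLP⟩ | ⟨P, hP, hne, A⟩
    · exact cj_of_mem hP hN (hLP h.zL)
    · obtain ⟨z₁, hz₁, e⟩ := A.LM z h.zL
      have hP' : Comp b (cj t P) := hP.conj_of_comm h.bt.symm
      rw [← e, ← cj_cj, cj_of_mem hP' hN (conj_mem_cj hz₁), cj_of_mem hP hN hz₁]
  -- a component of `C(b)` containing `M`
  obtain ⟨N, hN, hMN⟩ : ∃ N : Subgroup G, Comp b N ∧ M ≤ N := by
    obtain ⟨N, hN, h1 | ⟨h1, -⟩ | ⟨h1, -, -⟩⟩ := D8.PumpX.pump (C.bal b h.b_ord) h.zz hzb hMb' hMz.le hMz.quasi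
      heven hsub
    · exact ⟨N, hN, h1.le⟩
    · exact ⟨N, hN, h1.le⟩
    · exact absurd (hnorm N hN) h1
  have hzN : z ∈ N := hMN hz
  rcases hpos with ⟨P, hP, hLP⟩ | ⟨P, hP, hne, A⟩
  · -- vertical
    have e : N = P := by
      by_contra hne
      apply h.z1
      apply h.eq_one_L h.zL
      intro l hl
      exact comm_elt (hN.comm hP hne) hzN (hLP hl)
    have hMP : M ≤ P := e ▸ hMN
    have ht : cj t P = P := h.cj_eq hP hLP h.bt.symm (h.Lt z h.zL).symm
    have hMD : M ≤ D := by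
      have h1 := closure_odd hMz.quasi.1.commutator_eq_top
      intro m hm
      have h2 : (⟨m, hm⟩ : M) ∈ closure {y : M | Odd (orderOf y)} := by rw [h1]; exact mem_top _
      have h3 : closure {y : M | Odd (orderOf y)} ≤ D.comap M.subtype := by
        rw [closure_le]
        intro y hy
        show (y : G) ∈ D
        refine h.odd_mem C hS S hK.le hP hLP ht (hMP y.2) (mem_cs.1 (hMz.le y.2)) ?_
        rw [Subgroup.orderOf_coe]
        exact hy
      exact h3 h2
    apply Cfsg.Agent.SignalizersComponents.Components.quasisimple_not_isSolvable hMz.quasi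
    exact Group.isSolvable_of_isSolvable_injective (f := inclusion hMD) (inclusion_injective hMD)
  · -- diagonal
    obtain ⟨z₁, hz₁, e⟩ := A.LM z h.zL
    have htz : t * z = z * t := (h.Lt z h.zL).symm
    have hzP : z ∉ P := by
      intro hzP
      have h1 : t * z₁ * t⁻¹ ∈ P := by
        have h2 : t * z₁ * t⁻¹ = z₁⁻¹ * z := by rw [← e]; group
        rw [h2]; exact P.mul_mem (P.inv_mem hz₁) hzP
      have h2 := A.dis z₁ hz₁ h1
      apply h.z1
      rw [← e, h2]; group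
    have h1 : N ≠ P := fun e => hzP (e ▸ hzN)
    have h2 : N ≠ cj t P := by
      intro e1
      apply hzP
      rw [e1, mem_cj, mul_assoc, ← htz, ← mul_assoc, inv_mul_cancel, one_mul] at hzN
      exact hzN
    have hP' : Comp b (cj t P) := hP.conj_of_comm h.bt.symm
    apply h.z1
    apply h.eq_one_L h.zL
    intro l hl
    obtain ⟨m, hm, rfl⟩ := A.LM l hl
    have c1 : Commute z m := comm_elt (hN.comm hP h1) hzN hm
    have c2 : Commute z (t * m * t⁻¹) := comm_elt (hN.comm hP' h2) hzN (conj_mem_cj hm)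
    exact (c1.mul_right c2).eq

/-- **(R')** in `X = C_G(z)` -/
theorem refl_X (C : Ctx G) (hS : SpOrd.{u}) {K : Subgroup G} (S : Std G K) (hK : Nat.card K < 6531840)
    (hN : ∀ c : G, c * c = 1 → c ≠ 1 → ∀ K : Subgroup G, CompOf c K → ¬ NI3.HasY ↥K)
    {t : G} (tt : t * t = 1) (t1 : t ≠ 1) (Kt : ∀ x ∈ K, x * t = t * x)
    (nK : ∀ g, g * t = t * g → g ∈ normalizer (K : Set G))
    (cK : ∀ c, c * t = t * c → (∀ x ∈ K, x * c = c * x) → c = 1 ∨ c = t)
    {z : K} {R : Subgroup K} {i j k l a b : K} (h : KH z R i j k l a b) (hRf : Rf z R)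
    {z' t' : ↥(centralizer ({(z : G)} : Set G))} {Q₁ Q₂ : Subgroup ↥(centralizer ({(z : G)} : Set G))}
    (hz' : (z' : G) = z) (ht' : (t' : G) = t)
    (sol : Group.IsSolvable (centralizer ({t'} : Set ↥(centralizer ({(z : G)} : Set G)))))
    (e₁ : ∀ y : ↥(centralizer ({(z : G)} : Set G)), y ∈ Q₁ ↔ (y : G) ∈ closure ({(i : G), (j : G)} : Set G))
    (e₂ : ∀ y : ↥(centralizer ({(z : G)} : Set G)), y ∈ Q₂ ↔ (y : G) ∈ closure ({(k : G), (l : G)} : Set G)) :
    ∀ c, Refl z' t' Q₁ Q₂ c → ∀ M : Subgroup ↥(centralizer ({(z : G)} : Set G)), IsComponent M → z' ∈ M →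
      ¬ ∀ m ∈ M, c * m = m * c := by
  intro c hc M hM hzM hcM
  obtain ⟨L, F, _, _, hD⟩ := RefSw.data_of tt t1 Kt nK cK h hRf hz' ht' e₁ e₂ c hc
  have hcomp := CaseM.compOf_map hM
  have hsol : Group.IsSolvable ((DD i j k l a b).map K.subtype : Subgroup G) := by
    have hDz : ∀ d ∈ (DD i j k l a b).map K.subtype, d * z = z * d := by
      rintro _ ⟨d, hd, rfl⟩
      exact congrArg Subtype.val (h.Dz d hd)
    have hDt : ∀ d ∈ (DD i j k l a b).map K.subtype, d * t = t * d := by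
      rintro _ ⟨d, -, rfl⟩
      exact Kt d d.2
    let f : ((DD i j k l a b).map K.subtype : Subgroup G) →*
        centralizer ({t'} : Set ↥(centralizer ({(z : G)} : Set G))) :=
      { toFun := fun d => ⟨⟨d, mem_centralizer_singleton_iff.2 (hDz d d.2)⟩,
          mem_centralizer_singleton_iff.2 (Subtype.ext (by
            show (d : G) * t' = t' * d
            rw [ht']; exact hDt d d.2))⟩
        map_one' := rfl
        map_mul' := fun _ _ => rfl }
    have hf : Function.Injective f := by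
      intro x y e
      exact Subtype.ext (congrArg (fun w : centralizer ({t'} : Set ↥(centralizer ({(z : G)} : Set G))) =>
        ((w : ↥(centralizer ({(z : G)} : Set G))) : G)) e)
    exact Group.isSolvable_of_isSolvable_injective (f := f) hf
  refine refl_all hD C hS S hK (hN c hD.bb hD.b1) hsol (M := M.map (centralizer ({(z : G)} : Set G)).subtype)
    ⟨hcomp.1, hcomp.2⟩ ⟨z', hzM, hz'⟩ ?_
  rintro _ ⟨m, hm, rfl⟩
  exact congrArg Subtype.val (hcM m hm)

end Cfsg.Agent.OddHalf.D6.QThree.L43.ReflAll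

end

-- merged: Cfsg.Agent.OddHalf.D6.QThree.L43.EndSympl
section

/-!
# ODD half, D6, `q = 3`, row `L₄(3)`, `T < S`, the end: `F*(C_G(z))` is of symplectic type (helper751, text: helper76
#17200)
-/

set_option autoImplicit false

namespace Cfsg.Agent.OddHalf.D6.QThree.L43.EndSympl

open Subgroup Cfsg

/-- `F*(X)` is a 2-group if `O(X) = 1` and `E(X) = 1` -/
theorem isPGroup_genFitting {X : Type*} [Group X] [Finite X] (hO : pPrimeCore 2 X = ⊥)
    (hM : ∀ M : Subgroup X, ¬ IsComponent M) : IsPGroup 2 ↥(generalizedFittingSubgroup X) := by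
  have : Fact (Nat.Prime 2) := ⟨Nat.prime_two⟩
  have hl : layer X = ⊥ := Cfsg.Agent.SignalizersComponents.ComponentExists.layer_eq_bot_iff.2 hM
  have hfit : generalizedFittingSubgroup X = pCore 2 X := by
    rw [Cfsg.Agent.Lib.GenFitting.genFitting_def, hl, bot_sup_eq]
    exact Cfsg.Agent.SignalizersComponents.PConstrained.fittingSubgroup_eq_pCore_of_pPrimeCore_eq_bot 2 hO
  rw [hfit]
  exact Cfsg.Agent.Lib.Cores.pCore_isPGroup 2

/-- **`F*(X)` is of symplectic type** if `O(X) = 1`, `E(X) = 1` and every elementary abelian normal subgroup lies in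
`⟨z₀⟩` -/
theorem sympl {X : Type*} [Group X] [Finite X] (hO : pPrimeCore 2 X = ⊥)
    (hM : ∀ M : Subgroup X, ¬ IsComponent M) (z0 : X)
    (elem : ∀ W : Subgroup X, W.Normal → (∀ w ∈ W, w * w = 1) → ∀ w ∈ W, w = 1 ∨ w = z0) :
    IsOfSymplecticType ↥(generalizedFittingSubgroup X) :=
  Cfsg.Agent.OddHalf.D5.SixAut.SymSpl.sympl_of (isPGroup_genFitting hO hM) z0 elem

end Cfsg.Agent.OddHalf.D6.QThree.L43.EndSympl

end

-- merged: Cfsg.Agent.OddHalf.D6.QThree.L43End.List
section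

/-!
# ODD D6, row `L₄(3)`: the end "symplectic type", the lists of S1758, S1759, S1762, S1763

`end_false_of`: `Ctx G`, `F*(C(z))` of symplectic type, of order `2⁵`, `2⁷` or `2⁹` if extraspecial, `13` divides `|G|`
and some involution is not conjugate to `z`: impossible, given the listed theorems and the rows of characteristic 2
type.
-/

set_option autoImplicit false

namespace Cfsg.Agent.OddHalf.D6.QThree.L43End

open Subgroup Cfsg
open Cfsg.Agent.OddHalf.Small Cfsg.Agent.OddHalf.D5.SixAut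

universe u

/-- the conclusion of S1763 -/
def List512 (G : Type u) [Group G] : Prop :=
  (∃ (F : Type) (_ : Field F) (_ : Fintype F), Fintype.card F = 2 ∧ (Nonempty (G ≃* Matrix.ProjectiveSpecialLinearGroup (Fin 6) F) ∨
        Nonempty (G ≃* Cfsg.POmega F (Cfsg.quadFormPlus 4 F)) ∨
        (∃ a b : F, (∀ z₁ z₂ : F, z₁ ^ 2 + a * z₁ * z₂ + b * z₂ ^ 2 = 0 → z₁ = 0 ∧ z₂ = 0) ∧
          Nonempty (G ≃* Cfsg.POmega F (Cfsg.quadFormMinus 3 F a b))))) ∨
      (∃ (F : Type) (_ : Field F) (_ : Fintype F), Fintype.card F = 4 ∧ Nonempty (G ≃* Cfsg.PSU 6 F 2)) ∨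
      (∃ (K : Type) (_ : Field K) (_ : Fintype K), Fintype.card K = 8 ∧ Nonempty (G ≃* ↥(Cfsg.Lie.twistedD4 K 2))) ∨
      (∃ (F : Type) (_ : Field F) (_ : Fintype F), Fintype.card F = 3 ∧ Nonempty (G ≃* Cfsg.POmega F (Cfsg.quadFormPlus 4 F))) ∨
      Cfsg.Spor.IsoCo1 G ∨ Cfsg.Spor.IsoCo2 G ∨ Cfsg.Spor.IsoTh G ∨ Cfsg.Spor.IsoHN G

/-- S1763 -/
def P1763 : Prop :=
  ∀ (G : Type u) [Group G] [Finite G] [IsSimpleGroup G]
    (_ : ¬ IsMulCommutative G) (z : G) (_ : orderOf z = 2) (_ : Cfsg.IsOfSymplecticType ↥(Cfsg.generalizedFittingSubgroup ↥(Subgroup.centralizer ({z} : Set G)))) (_ : Cfsg.IsExtraspecial 2 ↥(Cfsg.generalizedFittingSubgroup ↥(Subgroup.centralizer ({z} : Set G)))) (_ : Nat.card ↥(Cfsg.generalizedFittingSubgroup ↥(Subgroup.centralizer ({z} : Set G))) = 2 ^ 9),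
    List512 G

/-- the rows -/
structure Rows9 : Prop extends SymRows.{u} where
  pop : ∀ (G : Type u) [Group G] [Finite G] [IsSimpleGroup G], (∃ a b : G, a * b ≠ b * a) → IsPOmegaPlusChar 2 G →
    IsCharacteristicTwoType G
  pom : ∀ (G : Type u) [Group G] [Finite G] [IsSimpleGroup G], (∃ a b : G, a * b ≠ b * a) → IsPOmegaMinusChar 2 G →
    IsCharacteristicTwoType G
  tw : ∀ (G : Type u) [Group G] [Finite G] [IsSimpleGroup G], (∃ a b : G, a * b ≠ b * a) → IsTwistedE6D4Char 2 G →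
    IsCharacteristicTwoType G
  co2 : ∀ (G : Type u) [Group G], Spor.IsoCo2 G → ¬ 13 ∣ Nat.card G
  th : ∀ (G : Type u) [Group G], Spor.IsoTh G → ∀ s t : G, orderOf s = 2 → orderOf t = 2 → ∃ g, g * s * g⁻¹ = t

variable {G : Type u} [Group G]

theorem list512_false (R : Rows9.{u}) (hC : Iface.Ctx G) {z t : G} (hz : orderOf z = 2) (ht : orderOf t = 2)
    (htz : ∀ g : G, g * t * g⁻¹ ≠ z) (h13 : 13 ∣ Nat.card G) (h : List512 G) : False := by
  have := hC.fin
  have := hC.simple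
  have h2 := hC.notTwo
  have hnc := exists_nc hC
  rcases h with ⟨F, _, _, hF, e | e | ⟨a, b, hab, e⟩⟩ | ⟨F, _, _, hF, e⟩ | ⟨F, _, _, hF, e⟩ | ⟨F, _, _, hF, e⟩ |
    h | h | h | h
  · have hch : CharP F 2 := charP_two_of_card (n := 1) (by norm_num) (by rw [hF]; norm_num)
    exact h2 (R.psl G hnc ⟨F, inferInstance, inferInstance, hch, 6, by norm_num, by norm_num, e⟩)
  · have hch : CharP F 2 := charP_two_of_card (n := 1) (by norm_num) (by rw [hF]; norm_num)
    exact h2 (R.pop G hnc ⟨F, inferInstance, inferInstance, hch, 4, le_rfl, e⟩)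
  · have hch : CharP F 2 := charP_two_of_card (n := 1) (by norm_num) (by rw [hF]; norm_num)
    exact h2 (R.pom G hnc ⟨F, inferInstance, inferInstance, hch, 4, a, b, le_rfl, hab, e⟩)
  · have hch : CharP F 2 := charP_two_of_card (n := 2) (by norm_num) (by rw [hF]; norm_num)
    exact h2 (R.psu G hnc ⟨F, inferInstance, inferInstance, hch, 6, 2, by rw [hF]; norm_num, by norm_num, by norm_num, e⟩)
  · have hch : CharP F 2 := charP_two_of_card (n := 3) (by norm_num) (by rw [hF]; norm_num)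
    exact h2 (R.tw G hnc ⟨F, inferInstance, inferInstance, hch, 2, Nat.prime_two.isPrimePow,
      Or.inr ⟨by rw [hF]; norm_num, e⟩⟩)
  · apply hC.nc
    refine Plug.concl_of_lieOdd R.rows h2 ?_
    obtain ⟨p, hp, hp2, hc⟩ := Plug.exists_char F (by rw [hF]; decide)
    refine ⟨p, hp, hp2, ?_⟩
    iterate 4 right
    left
    exact ⟨F, inferInstance, inferInstance, hc, 4, le_rfl, e⟩
  · apply hC.nc
    unfold Iface.Concl Excl.Concl
    iterate 13 right
    exact Or.inl h
  · exact R.co2 G h h13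
  · obtain ⟨g, hg⟩ := R.th G h t z ht hz
    exact htz g hg
  · apply hC.nc
    unfold Iface.Concl Excl.Concl
    iterate 17 right
    exact Or.inl h

/-- **the end "symplectic type"** -/
theorem end_false_of (R : Rows9.{u}) (L : SymListed.{u}) (L9 : P1763.{u}) (hC : Iface.Ctx G) {z t : G}
    (hz : orderOf z = 2)
    (hQ : Cfsg.IsOfSymplecticType ↥(Cfsg.generalizedFittingSubgroup ↥(Subgroup.centralizer ({z} : Set G))))
    (h13 : 13 ∣ Nat.card G) (tt : t * t = 1) (t1 : t ≠ 1) (htz : ∀ g : G, g * t * g⁻¹ ≠ z)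
    (hcard : Cfsg.IsExtraspecial 2 ↥(Cfsg.generalizedFittingSubgroup ↥(Subgroup.centralizer ({z} : Set G))) →
      Nat.card ↥(Cfsg.generalizedFittingSubgroup ↥(Subgroup.centralizer ({z} : Set G))) = 2 ^ 5 ∨
      Nat.card ↥(Cfsg.generalizedFittingSubgroup ↥(Subgroup.centralizer ({z} : Set G))) = 2 ^ 7 ∨
      Nat.card ↥(Cfsg.generalizedFittingSubgroup ↥(Subgroup.centralizer ({z} : Set G))) = 2 ^ 9) : False := by
  have := hC.fin
  have := hC.simple
  have hf : Fact (Nat.Prime 2) := ⟨Nat.prime_two⟩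
  have z1 : z ≠ 1 := by
    rintro rfl
    rw [orderOf_one] at hz
    omega
  have ht : orderOf t = 2 := orderOf_eq_prime (by rw [pow_two]; exact tt) t1
  have h2 := hC.notTwo
  rcases L.s1758 G hC.na z hz hQ with hE | h | ⟨F, _, _, hF, ⟨e⟩⟩ | h | ⟨F, _, _, hF, e⟩ | ⟨F, _, _, hF, e⟩ | h
  · rcases hcard hE with h32 | h128 | h512
    · have h1 := L.s1759 G z hz hQ hE (by rw [h32]; norm_num) (D0.star_simple G hC.na) (D0.star_na G hC.na)
      exact list32_false R.toSymRows hC (list32_congr (D0.starEquiv G hC.na) h1)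
    · exact list128_false R.toSymRows hC (L.s1762 G hC.na z hz hQ hE h128)
    · exact list512_false R hC hz ht htz h13 (L9 G hC.na z hz hQ hE h512)
  · exact center_false hC z1 h
  · apply hC.nc
    rcases Nat.even_or_odd (Fintype.card F) with he | ho
    · exact absurd (L2.psl2_even he e) h2
    · rcases Nat.lt_or_ge (Fintype.card F) 4 with h4 | h4
      · have h3 : Fintype.card F = 3 := by
          have := Plug.one_lt F
          obtain ⟨k, hk⟩ := ho
          omega
        exact absurd (L2.psl2 (Or.inl ⟨by rw [h3]; exact Nat.prime_three, Or.inl ⟨2, by omega⟩⟩) e) h2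
      · exact Plug.concl_of_lieOdd R.rows h2 (Plug.lieOdd_psl F ho le_rfl (fun _ => h4) ⟨e⟩)
  · exact h2 (M11.charTwo_of_iso h)
  · exact hC.nc (Plug.concl_of_lieOdd R.rows h2 (Plug.lieOdd_psl F (by rw [hF]; decide) (by norm_num)
      (fun h => absurd h (by norm_num)) e))
  · exact hC.nc (Plug.concl_of_lieOdd R.rows h2 (Plug.lieOdd_psu F (q := 3) (by rw [hF]; norm_num) (by decide) le_rfl e))
  · apply hC.nc
    unfold Iface.Concl Excl.Concl
    iterate 7 right
    exact Or.inl h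

end Cfsg.Agent.OddHalf.D6.QThree.L43End

end

-- merged: Cfsg.Agent.OddHalf.D6.QThree.L43End.End
section

/-!
# ODD D6, row `L₄(3)`: the end "symplectic type"

`end_false`: `Ctx G`, `F*(C(z))` of symplectic type, of order `2⁵`, `2⁷` or `2⁹` if extraspecial, `13` divides `|G|`
and some involution is not conjugate to `z`: impossible.
-/

set_option autoImplicit false

namespace Cfsg.Agent.OddHalf.D6.QThree.L43End

open Subgroup Cfsg
open Cfsg.Agent.OddHalf.D5.SixAut

universe u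

theorem rows9 : Rows9.{u} where
  rows := Small.RowsAll.rows
  psl G _ _ _ hc h := (KFacts.RgdLieCharP.hasFilt_of_lie (Or.inl h)).charTwo hc
  psu G _ _ _ hc h := (KFacts.RgdLieCharP.hasFilt_of_lie (Or.inr (Or.inr (Or.inl h)))).charTwo hc
  j3 G _ _ h := Small.J3.j3 G h
  m24 G _ _ h := Small.M24Char.m24 h
  pop G _ _ _ hc h := (KFacts.RgdLieCharP.hasFilt_of_lie (Or.inr (Or.inr (Or.inr (Or.inr (Or.inl h)))))).charTwo hc
  pom G _ _ _ hc h :=
    (KFacts.RgdLieCharP.hasFilt_of_lie (Or.inr (Or.inr (Or.inr (Or.inr (Or.inr (Or.inl h))))))).charTwo hc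
  tw G _ _ _ hc h :=
    (KFacts.RgdLieCharP.hasFilt_of_lie (Or.inr (Or.inr (Or.inr (Or.inr (Or.inr (Or.inr (Or.inr h)))))))).charTwo hc
  co2 G _ h := by
    obtain ⟨e⟩ := h
    rw [Nat.card_congr e.toEquiv, Co2Type.CardCo2.card_co2]
    norm_num
  th G _ h s t hs ht := by
    obtain ⟨e⟩ := h
    have h1 := MonsterX.ThOneClass.oneClass (e s) (e t) (by rw [← hs]; exact MulEquiv.orderOf_eq e s)
      (by rw [← ht]; exact MulEquiv.orderOf_eq e t)
    obtain ⟨c, hc⟩ := isConj_iff.1 h1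
    refine ⟨e.symm c, ?_⟩
    apply e.injective
    rw [map_mul, map_mul, map_inv, e.apply_symm_apply]
    exact hc

theorem listed : SymListed.{u} where
  s1758 _ _ _ _ h z hz hQ := S1758.result h z hz hQ
  s1759 _ _ _ z hz hQ hE h32 hL hL' := S1759.result z hz hQ hE h32 hL hL'
  s1762 _ _ _ _ h z hz hQ hE hc := S1762.result h z hz hQ hE hc

theorem p1763 : P1763.{u} := fun _ _ _ _ h z hz hQ hE hc => S1763.result h z hz hQ hE hc

/-- **the end "symplectic type"** -/
theorem end_false {G : Type u} [Group G] (hC : Iface.Ctx G) {z t : G} (hz : orderOf z = 2)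
    (hQ : Cfsg.IsOfSymplecticType ↥(Cfsg.generalizedFittingSubgroup ↥(Subgroup.centralizer ({z} : Set G))))
    (h13 : 13 ∣ Nat.card G) (tt : t * t = 1) (t1 : t ≠ 1) (htz : ∀ g : G, g * t * g⁻¹ ≠ z)
    (hcard : Cfsg.IsExtraspecial 2 ↥(Cfsg.generalizedFittingSubgroup ↥(Subgroup.centralizer ({z} : Set G))) →
      Nat.card ↥(Cfsg.generalizedFittingSubgroup ↥(Subgroup.centralizer ({z} : Set G))) = 2 ^ 5 ∨
      Nat.card ↥(Cfsg.generalizedFittingSubgroup ↥(Subgroup.centralizer ({z} : Set G))) = 2 ^ 7 ∨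
      Nat.card ↥(Cfsg.generalizedFittingSubgroup ↥(Subgroup.centralizer ({z} : Set G))) = 2 ^ 9) : False :=
  end_false_of rows9 listed p1763 hC hz hQ h13 tt t1 htz hcard

end Cfsg.Agent.OddHalf.D6.QThree.L43End

end

-- merged: Cfsg.Agent.OddHalf.D6.QThree.L43.RowTS
section

/-!
# ODD half, D6, `K = L₄(3)`, `T < S`: the assembly from `Out` (helper890, text of helper76, bb #17200)

`KF`: the facts on `K`; `two`, `el`: `B / ⟨t, z⟩` has order at most two, `B` is elementary abelian; `card_B`: `|B| ≤ 8`;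
`refD`, `hypB`, `beta`, `noComp`: `C(z)` has no component, if the output `AlphaM.Out` of (A), (B) is impossible;
`false_of`: the contradiction.
-/

set_option autoImplicit false

namespace Cfsg.Agent.OddHalf.D6.QThree.L43.RowTS

open Subgroup Cfsg Cfsg.Agent.OddHalf Cfsg.Agent.OddHalf.Iface
open Cfsg.Agent.OddHalf.D6.QThree.FrontB (BA Z2 FrontK Out)
open Cfsg.Agent.OddHalf.D6.QThree.FrontLoc
open Cfsg.Agent.OddHalf.D6.QThree.RefData (KH DD)

universe u

/-- the facts on `K = L₄(3)` -/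
structure KF {K : Type*} [Group K] (z : K) (R : Subgroup K) (i j k l a b : K) : Prop where
  f : FrontK z R i j k l a b
  rf : RefData.Rf z R
  /-- `B̄` is elementary abelian of order at most four -/
  sq : ∀ α : MulAut K, BA R α → α * α = 1
  cc : ∀ α β : MulAut K, BA R α → BA R β → Z2 z α ∨ Z2 z β ∨ Z2 z (α⁻¹ * β)

variable {G : Type u} [Group G] {K : Subgroup G} {t : G} {z : K} {R : Subgroup K} {i j k l a b : K}

theorem odd_of_cube {H : Type*} [Group H] {x : H} (h : x * x * x = 1) : Odd (orderOf x) := by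
  have h1 : orderOf x ∣ 3 := orderOf_dvd_of_pow_eq_one (by rw [pow_succ, pow_two]; exact h)
  rcases (Nat.dvd_prime Nat.prime_three).1 h1 with h2 | h2 <;> rw [h2] <;> decide

theorem kh (f : FrontK z R i j k l a b) (L : Loc t (z : G) (R.map K.subtype) (i : G) j k l a b) :
    KH z R i j k l a b :=
  KH.of_K f (odd_of_cube (Subtype.ext L.a3)) (odd_of_cube (Subtype.ext L.b3))

/-- `|B : ⟨t, z⟩| ≤ 2` -/
theorem two (O : OutC K t (z : G)) (κ : KF z R i j k l a b) {x y : G} (hx : Bt t (R.map K.subtype) x)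
    (hy : Bt t (R.map K.subtype) y) : T4 t (z : G) x ∨ T4 t (z : G) y ∨ T4 t (z : G) (x⁻¹ * y) := by
  have hxy : x⁻¹ * y * t = t * (x⁻¹ * y) :=
    ((show Commute x t from hx.1).inv_left.mul_left (show Commute y t from hy.1)).eq
  rcases κ.cc _ _ (al_BA O hx) (al_BA O hy) with h | h | h
  · exact Or.inl (Z2_T4 O hx.1 h)
  · exact Or.inr (Or.inl (Z2_T4 O hy.1 h))
  · right; right
    apply Z2_T4 O hxy
    rw [al_div O hx.1 hy.1 hxy]
    exact h

/-- the squares of the elements of `B` are `1`, `t` -/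
theorem sq_cases (O : OutC K t (z : G)) (κ : KF z R i j k l a b) {x : G} (hx : Bt t (R.map K.subtype) x) :
    x * x = 1 ∨ x * x = t := by
  have hxx : x * x * t = t * (x * x) := ((show Commute x t from hx.1).mul_left hx.1).eq
  have h1 := κ.sq _ (al_BA O hx)
  rw [← al_mul O hx.1 hx.1 hxx] at h1
  apply O.cK _ hxx
  intro y hy
  have h2 := al_apply O hxx ⟨y, hy⟩
  rw [h1, MulAut.one_apply] at h2
  have h3 : y = x * x * y * (x * x)⁻¹ := h2
  exact eq_mul_inv_iff_mul_eq.1 h3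

/-- `B` is elementary abelian -/
theorem el (O : OutC K t (z : G)) (κ : KF z R i j k l a b)
    (L : Loc0 t (z : G) (R.map K.subtype) (i : G) j k l a b) [Finite G] {x : G} (hx : Bt t (R.map K.subtype) x) :
    x * x = 1 := by
  rcases sq_cases O κ hx with h | h
  · exact h
  exfalso
  obtain ⟨s, hs, hsz⟩ := L.s
  have h1 := sq_cases O κ (L.sB hs hsz hx)
  have h2 : s * x * s⁻¹ * (s * x * s⁻¹) = t * z := by
    calc s * x * s⁻¹ * (s * x * s⁻¹) = s * (x * x) * s⁻¹ := by group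
      _ = t * z := by rw [h, hs]
  rw [h2] at h1
  rcases h1 with h1 | h1
  · apply L.tz
    have h3 : (t * z) * z = 1 * z := by rw [h1]
    rw [mul_assoc, L.fr.zz, mul_one, one_mul] at h3
    exact h3
  · exact L.fr.z1 (mul_eq_left.1 h1)

/-- `|B| ≤ 8` -/
theorem card_B (O : OutC K t (z : G)) (κ : KF z R i j k l a b) :
    Nat.card {x : G // Bt t (R.map K.subtype) x} ≤ 8 := by
  classical
  obtain ⟨c, hc⟩ : ∃ c : G, ∀ x, Bt t (R.map K.subtype) x → T4 t (z : G) x ∨ T4 t (z : G) (c⁻¹ * x) := by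
    by_cases h : ∃ c, Bt t (R.map K.subtype) c ∧ ¬ T4 t (z : G) c
    · obtain ⟨c, hc, hn⟩ := h
      exact ⟨c, fun x hx => (two O κ hc hx).resolve_left hn⟩
    · push Not at h
      exact ⟨1, fun x hx => Or.inl (h x hx)⟩
  let s : Finset G := {1, (z : G), t, t * z, c, c * z, c * t, c * (t * z)}
  have h1 : {x : G | Bt t (R.map K.subtype) x} ⊆ (s : Set G) := by
    intro x hx
    have hx' := hc x hx
    simp only [s, Finset.coe_insert, Finset.coe_singleton, Set.mem_insert_iff, Set.mem_singleton_iff]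
    rcases hx' with (h | h | h | h) | (h | h | h | h)
    · exact Or.inl h
    · exact Or.inr (Or.inl h)
    · exact Or.inr (Or.inr (Or.inl h))
    · exact Or.inr (Or.inr (Or.inr (Or.inl h)))
    · exact Or.inr (Or.inr (Or.inr (Or.inr (Or.inl (inv_mul_eq_one.1 h).symm))))
    · exact Or.inr (Or.inr (Or.inr (Or.inr (Or.inr (Or.inl (inv_mul_eq_iff_eq_mul.1 h))))))
    · exact Or.inr (Or.inr (Or.inr (Or.inr (Or.inr (Or.inr (Or.inl (inv_mul_eq_iff_eq_mul.1 h)))))))
    · exact Or.inr (Or.inr (Or.inr (Or.inr (Or.inr (Or.inr (Or.inr (inv_mul_eq_iff_eq_mul.1 h)))))))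
  have h2 : Nat.card {x : G | Bt t (R.map K.subtype) x} ≤ Nat.card (s : Set G) :=
    Nat.card_mono (Finset.finite_toSet s) h1
  rw [Nat.card_coe_set_eq (s : Set G), Set.ncard_coe_finset] at h2
  refine h2.trans ((Finset.card_insert_le _ _).trans ?_)
  have h3 := Finset.card_insert_le (z : G) {t, t * z, c, c * z, c * t, c * (t * z)}
  have h4 : Finset.card {t, t * (z : G), c, c * z, c * t, c * (t * z)} ≤ 6 := Finset.card_le_six
  omega

section

variable (L : Loc t (z : G) (R.map K.subtype) (i : G) j k l a b)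

/-- `z` in `X = C(z)` -/
abbrev zX : ↥(centralizer ({(z : G)} : Set G)) := up (z : G) z rfl

/-- `t` in `X` -/
abbrev tX : ↥(centralizer ({(z : G)} : Set G)) := up (z : G) t L.comm

theorem mem_Q₁ (y : ↥(centralizer ({(z : G)} : Set G))) :
    y ∈ L.frX.Q₁ ↔ (y : G) ∈ closure ({(i : G), (j : G)} : Set G) := by
  rw [L.mem₁, L.fr.Q₁_eq]

theorem mem_Q₂ (y : ↥(centralizer ({(z : G)} : Set G))) :
    y ∈ L.frX.Q₂ ↔ (y : G) ∈ closure ({(k : G), (l : G)} : Set G) := by
  rw [L.mem₂, L.fr.Q₂_eq]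

include L

/-- the position of the reflections -/
theorem data (O : Out K t (z : G)) (κ : KF z R i j k l a b) {c : G}
    (hc : Loc.Rf t (z : G) (R.map K.subtype) c) : ∃ (L : Subgroup G) (F : Type) (_ : Field F) (_ : Fintype F),
      RefOf.Data t (z : G) c (closure {(i : G), (j : G), (k : G), (l : G), (a : G), (b : G)}) (R.map K.subtype) L F := by
  have hcz : c * z = z * c := hc.1.2 z L.zR
  obtain ⟨E, F, i1, i2, h⟩ := RefSw.data_of O.tt O.t1 O.Kt O.nK O.cK (kh κ.f L) κ.rf (z' := zX) (t' := tX L)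
    rfl rfl (mem_Q₁ L) (mem_Q₂ L) (up (z : G) c hcz)
    ⟨(L.Bt_iff _).2 hc.1, Subtype.ext hc.2.1, fun h => hc.2.2 ((L.T4_iff _).1 h)⟩
  refine ⟨E, F, i1, i2, ?_⟩
  rw [closure_map]
  exact h

theorem refD (C : Ctx G) (hSp : Pump.SpOrd.{u}) (S : Std G K) (hK : Nat.card K ≤ 6531840)
    (hN : ∀ c : G, c * c = 1 → c ≠ 1 → ∀ K : Subgroup G, CompOf c K → ¬ NI3.HasY ↥K)
    (O : Out K t (z : G)) (κ : KF z R i j k l a b) {c : G} (hc : Loc.Rf t (z : G) (R.map K.subtype) c) :
    NIB.RefD t (z : G) c (closure {(i : G), (j : G), (k : G), (l : G), (a : G), (b : G)}) := by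
  obtain ⟨E, F, _, _, h⟩ := data L O κ hc
  rcases h.main C hSp S hK (hN c hc.2.1 fun h => hc.2.2 (Or.inl h)) with h1 | ⟨M, L', -, -, h1⟩
  · left
    apply Diag.sn_of_conj
    rintro g ⟨hg1, hg2⟩ d hd
    exact h1 g (mem_centralizer_singleton_iff.1 hg1) (mem_centralizer_singleton_iff.1 hg2) d hd
  · exact Or.inr ⟨M, L', h1⟩

/-- `HypB`, if not all components are centralised by `Q₁` and `Q₂` -/
theorem hypB (C : Ctx G) (hSp : Pump.SpOrd.{u}) (S : Std G K) (hK : Nat.card K ≤ 6531840)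
    (hN : ∀ c : G, c * c = 1 → c ≠ 1 → ∀ K : Subgroup G, CompOf c K → ¬ NI3.HasY ↥K)
    (O : Out K t (z : G)) (κ : KF z R i j k l a b) (hall : ¬ AlphaM.All L.frX.Q₁ L.frX.Q₂) :
    NIB.HypB zX (tX L) (up (z : G) a (az L.fr)) (up (z : G) b (bz L.fr)) L.frX.Q₁ L.frX.Q₂ :=
  L.hypB C (fun _ hc => refD L C hSp S hK hN O κ hc) fun _ _ _ h => absurd h hall

/-- **(beta)**: no component of `C(z)` contains `Q₁` or `Q₂` -/
theorem beta (hGW : SylowSp4.Hyps.GW.{u}) (I : Intr2.{u}) (hS : CaseM.IntrSign.{u}) (C : Ctx G)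
    (hcy : ∀ K : Subgroup G, Std0 G K → PRankLE 2 1 ↥(centralizer (K : Set G)) → Cyc K) (hSp : Pump.SpOrd.{u})
    (S : Std G K) (hK : Nat.card K < 6531840)
    (hN : ∀ c : G, c * c = 1 → c ≠ 1 → ∀ K : Subgroup G, CompOf c K → ¬ NI3.HasY ↥K)
    (O : Out K t (z : G)) (κ : KF z R i j k l a b)
    (h : NIB.HypB zX (tX L) (up (z : G) a (az L.fr)) (up (z : G) b (bz L.fr)) L.frX.Q₁ L.frX.Q₂) : False := by
  have hfin := C.fin
  have hz : orderOf (z : G) = 2 := orderOf_eq_prime (by rw [pow_two]; exact L.fr.zz) L.fr.z1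
  obtain ⟨M, hM, hQ⟩ := h.exists_comp
  refine Beta.false_of hGW I hS C hcy hz rfl h (fun c hc => Subtype.ext (el (OutC.of_out O) κ L.toLoc0 ((L.Bt_iff c).1 hc))) ?_
    (RefSw.refTri_of C hSp S hK hN O.tt O.t1 O.Kt O.nK O.cK (kh κ.f L) κ.rf rfl rfl h.s₁ h.s₂ h.comm rfl rfl
      (mem_Q₁ L) (mem_Q₂ L)) hM hQ
  intro c d hc hd
  rw [L.T4_iff]
  rcases two (OutC.of_out O) κ ((L.Bt_iff c).1 hc.1) ((L.Bt_iff d).1 hd.1) with h1 | h1 | h1
  · exact absurd ((L.T4_iff c).2 h1) hc.2.2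
  · exact absurd ((L.T4_iff d).2 h1) hd.2.2
  · have hci : (c : G)⁻¹ = c := inv_eq_of_mul_eq_one_right (congrArg Subtype.val hc.2.1)
    rw [hci] at h1
    exact h1

/-- (C), (D) of (alpha): the output of (A), (B) is impossible -/
def Alpha : Prop := ∀ M : Subgroup ↥(centralizer ({(z : G)} : Set G)),
  ¬ AlphaM.Out zX (tX L) L.frX.Q₁ L.frX.Q₂ M

/-- **(NI)**: `C(z)` has no component -/
theorem noComp (hGW : SylowSp4.Hyps.GW.{u}) (I : Intr2.{u}) (hS : CaseM.IntrSign.{u}) (C : Ctx G)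
    (hcy : ∀ K : Subgroup G, Std0 G K → PRankLE 2 1 ↥(centralizer (K : Set G)) → Cyc K) (hSp : Pump.SpOrd.{u})
    (S : Std G K) (hK : Nat.card K < 6531840)
    (hN : ∀ c : G, c * c = 1 → c ≠ 1 → ∀ K : Subgroup G, CompOf c K → ¬ NI3.HasY ↥K)
    (O : Out K t (z : G)) (κ : KF z R i j k l a b) (hα : Alpha L) :
    ∀ M : Subgroup ↥(centralizer ({(z : G)} : Set G)), ¬ IsComponent M := by
  intro M hM
  have hfin := C.fin
  have hz : orderOf (z : G) = 2 := orderOf_eq_prime (by rw [pow_two]; exact L.fr.zz) L.fr.z1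
  have hO : pPrimeCore 2 ↥(centralizer ({(z : G)} : Set G)) = ⊥ := Soft.core_eq_bot (C.bal _ hz)
  have P := L.pre hO
  have H : DiagEnd.Hyp t (z : G) (closure {(i : G), (j : G), (k : G), (l : G), (a : G), (b : G)}) (R.map K.subtype)
      (closure {(i : G), (j : G), (a : G)}) :=
    L.hyp C fun c hc => NIB.RefD.ref (refD L C hSp S hK.le hN O κ hc) Loc.JD (Diag.sn_of_conj L.nJ)
  by_cases hall : AlphaM.All L.frX.Q₁ L.frX.Q₂
  · exact hα M (AlphaM.out hGW hS C hz rfl P (L.elemX H) L.tH hall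
      (fun c hc => Subtype.ext (el (OutC.of_out O) κ L.toLoc0 ((L.Bt_iff c).1 hc)))
      (ReflAll.refl_X C hSp S hK hN O.tt O.t1 O.Kt O.nK O.cK (kh κ.f L) κ.rf rfl rfl P.sol (mem_Q₁ L) (mem_Q₂ L)) hM)
  · exact beta L hGW I hS C hcy hSp S hK hN O κ (hypB L C hSp S hK.le hN O κ hall)

/-- **the contradiction** -/
theorem false_of (hGW : SylowSp4.Hyps.GW.{u}) (I : Intr2.{u}) (hS : CaseM.IntrSign.{u}) (C : Ctx G)
    (hcy : ∀ K : Subgroup G, Std0 G K → PRankLE 2 1 ↥(centralizer (K : Set G)) → Cyc K) (hSp : Pump.SpOrd.{u})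
    (S : Std G K) (hK : Nat.card K < 6531840) (h13 : 13 ∣ Nat.card K)
    (hN : ∀ c : G, c * c = 1 → c ≠ 1 → ∀ K : Subgroup G, CompOf c K → ¬ NI3.HasY ↥K)
    (O : Out K t (z : G)) (κ : KF z R i j k l a b) (hα : Alpha L) : False := by
  have hfin := C.fin
  have hz : orderOf (z : G) = 2 := orderOf_eq_prime (by rw [pow_two]; exact L.fr.zz) L.fr.z1
  have hO : pPrimeCore 2 ↥(centralizer ({(z : G)} : Set G)) = ⊥ := Soft.core_eq_bot (C.bal _ hz)
  have H : DiagEnd.Hyp t (z : G) (closure {(i : G), (j : G), (k : G), (l : G), (a : G), (b : G)}) (R.map K.subtype)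
      (closure {(i : G), (j : G), (a : G)}) :=
    L.hyp C fun c hc => NIB.RefD.ref (refD L C hSp S hK.le hN O κ hc) Loc.JD (Diag.sn_of_conj L.nJ)
  exact L43End.end_false C hz (EndSympl.sympl hO (noComp L hGW I hS C hcy hSp S hK hN O κ hα) zX (L.elemX H))
    (h13.trans (card_subgroup_dvd_card K)) O.tt O.t1 O.nc (EndCard.card_cases L (card_B (OutC.of_out O) κ))

end

end Cfsg.Agent.OddHalf.D6.QThree.L43.RowTS

end
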